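import Groth.Agent.PerfDualLib.Derived
import Mathlib.CategoryTheory.Adjunction.Comma

/-!
# Existence of the derived internal hom
-/

set_option autoImplicit false
set_option linter.all false
set_option backward.isDefEq.respectTransparency false
set_option backward.isDefEq.respectTransparency.types false
set_option maxHeartbeats 1000000

universe u

open CategoryTheory CategoryTheory.Limits AlgebraicGeometry HomologicalComplex
open Groth.Agent Groth.Agent.DerLib Groth.Agent.PerfDualLib

attribute [local instance] HasDerivedCategory.standard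

noncomputable section

namespace BidualSchLib

section Generic

variable {C D : Type*} [Category C] [Category D] {Qf : C ⥤ D} [Qf.EssSurj] {t g : C ⥤ C}
  (a : t ⊣ g) {L : D ⥤ D} (c : Qf ⋙ L ≅ t ⋙ Qf) (good : C → Prop)

include a c in
theorem isLeftAdjoint_of_reps (hgood : ∀ E : D, ∃ I, good I ∧ Nonempty (Qf.obj I ≅ E))
    (hsurj : ∀ (P I : C), good I → ∀ (u : Qf.obj (t.obj P) ⟶ Qf.obj I), ∃ ψ, Qf.map ψ = u)
    (hfull : ∀ (P I : C), good I → ∀ (u : Qf.obj P ⟶ Qf.obj (g.obj I)), ∃ φ, Qf.map φ = u)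
    (hinj : ∀ (P I : C), good I → ∀ (φ φ' : P ⟶ g.obj I),
      Qf.map ((a.homEquiv P I).symm φ) = Qf.map ((a.homEquiv P I).symm φ') → Qf.map φ = Qf.map φ') :
    L.IsLeftAdjoint := by
  haveI : ∀ E : D, HasTerminal (CostructuredArrow L E) := fun E => by
    obtain ⟨I, hI, ⟨e⟩⟩ := hgood E
    let T : CostructuredArrow L E :=
      CostructuredArrow.mk (c.hom.app (g.obj I) ≫ Qf.map (a.counit.app I) ≫ e.hom)
    have key : ∀ (P : C) (φ : P ⟶ g.obj I), L.map (Qf.map φ) ≫ T.hom =
        c.hom.app P ≫ Qf.map ((a.homEquiv P I).symm φ) ≫ e.hom := by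
      intro P φ
      rw [a.homEquiv_counit, Functor.map_comp, Category.assoc]
      exact c.hom.naturality_assoc φ _
    haveI : ∀ Z : CostructuredArrow L E, Nonempty (Z ⟶ T) := fun Z => by
      obtain ⟨ψ, hψ⟩ := hsurj _ I hI (c.inv.app (Qf.objPreimage Z.left) ≫
        L.map (Qf.objObjPreimageIso Z.left).hom ≫ Z.hom ≫ e.inv)
      refine ⟨CostructuredArrow.homMk ((Qf.objObjPreimageIso Z.left).inv ≫ Qf.map (a.homEquiv _ _ ψ)) ?_⟩
      rw [Functor.map_comp, Category.assoc, key, Equiv.symm_apply_apply, hψ]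
      simp
    haveI : ∀ Z : CostructuredArrow L E, Subsingleton (Z ⟶ T) := fun Z => ⟨fun x y => by
      let π := Qf.objObjPreimageIso Z.left
      obtain ⟨φ, hφ⟩ := hfull _ I hI (π.hom ≫ x.left)
      obtain ⟨φ', hφ'⟩ := hfull _ I hI (π.hom ≫ y.left)
      refine CostructuredArrow.hom_ext x y ((cancel_epi π.hom).1 ?_)
      rw [← hφ, ← hφ']
      refine hinj _ I hI _ _ ((cancel_mono e.hom).1 ((cancel_epi (c.hom.app _)).1 ?_))
      rw [← key, ← key, hφ, hφ', Functor.map_comp, Functor.map_comp, Category.assoc, Category.assoc]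
      exact congrArg (L.map π.hom ≫ ·) ((CostructuredArrow.w x).trans (CostructuredArrow.w y).symm)⟩
    exact hasTerminal_of_unique T
  exact isLeftAdjoint_of_costructuredArrowTerminals L

end Generic

variable {X : Scheme.{u}}

theorem hasRSheafHom_of_kFlat {K : Cx X} [DCoh.HasLTensorCx K] (hK : DCoh.IsKFlat K) :
    DCoh.HasRSheafHom K := by
  refine isLeftAdjoint_of_reps (Gen.gAdj (Tb X) K) (TensorAssocLib.flatCnt K hK)
    (fun I => I.IsKInjective) (fun E => ?_) (fun P I hI u => haveI := hI; KInjUse.Q_map_surjective _ _ u)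
    (fun P I hI u => haveI := hI; haveI := isKInjective_iG hK I; KInjUse.Q_map_surjective _ _ u)
    (fun P I hI φ φ' h => ?_)
  · obtain ⟨I, hI, ⟨e⟩⟩ := KInjUse.exists_iso_Q_kInjective E
    exact ⟨I, hI, ⟨e.symm⟩⟩
  · haveI := hI
    haveI := isKInjective_iG hK I
    have hadd : Gen.adjunct (φ - φ') = Gen.adjunct φ - Gen.adjunct φ' := by
      haveI : (Gen.tR (Tb X) K).Additive := KFlatLib.additive_bimap₁ (Tb X) K
      simp only [Gen.adjunct, Adjunction.homEquiv_counit, Functor.map_sub, Preadditive.sub_comp]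
    have h0 : DerivedCategory.Q.map (Gen.adjunct (φ - φ')) = 0 := by
      rw [hadd, Functor.map_sub, sub_eq_zero]
      exact h
    obtain ⟨H⟩ := Gen.nonempty_null_of_adjunct (φ - φ')
      (HomotopyCategory.homotopyOfEq _ 0 ((KInjUse.quotient_eq_zero_of_Q h0).trans
        ((HomotopyCategory.quotient _ _).map_zero _ _).symm))
    rw [← sub_eq_zero, ← Functor.map_sub]
    exact KInjUse.Q_map_zero_of_quotient ((HomotopyCategory.eq_of_homotopy _ 0 H).trans
      ((HomotopyCategory.quotient _ _).map_zero _ _))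

/-- `- ⊗^L K` always has a right adjoint. -/
theorem hasRSheafHom (K : Cx X) [DCoh.HasLTensorCx K] : DCoh.HasRSheafHom K := by
  let K' := (KFlatLib.resP X).obj K
  haveI : QuasiIso ((KFlatLib.resψ X).app K) := KFlatLib.quasiIso_resψ K
  haveI := KFlatLib.hasLTensorCx K'
  let q : K' ⟶ K := (KFlatLib.resψ X).app K
  haveI : QuasiIso q := KFlatLib.quasiIso_resψ K
  obtain ⟨ω⟩ := nonempty_lTensor_congr q
  haveI : DCoh.HasRSheafHom K' := hasRSheafHom_of_kFlat (KFlatLib.good_resP K).1
  exact ((DCoh.RSheafHomAdj K').ofNatIsoLeft ω).isLeftAdjoint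

end BidualSchLib
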