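import Groth.Agent.KFlatLib.AlgMore
import Groth.Agent.PerfDualLib.Homotopy
import Mathlib.RingTheory.Nakayama
import Mathlib.Algebra.Homology.Linear
import Mathlib.Algebra.Homology.ShortComplex.Linear
import Mathlib.Algebra.Homology.SingleHomology
import Mathlib.Algebra.Category.ModuleCat.Monoidal.Basic

/-!
# A map out of the ring into a complex with homology free of rank one
-/

set_option autoImplicit false
set_option linter.all false
set_option backward.isDefEq.respectTransparency false
set_option backward.isDefEq.respectTransparency.types false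
set_option maxHeartbeats 1000000

universe u

open CategoryTheory CategoryTheory.Limits MonoidalCategory HomologicalComplex
open Groth.Agent Groth.Agent.PerfDualLib
open KFlatLib (tT tMap)

noncomputable section

namespace BidualSchLib

variable {R : Type u} [CommRing R]

/-- `R` in degree zero. -/
abbrev R0 (R : Type u) [CommRing R] : CochainComplex (ModuleCat.{u} R) ℤ :=
  (single (ModuleCat.{u} R) (ComplexShape.up ℤ) 0).obj (ModuleCat.of R R)

theorem tMap_smul_add {L L' K : CochainComplex (ModuleCat.{u} R) ℤ} (r : R) (f g : L ⟶ L') :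
    tMap (r • f + g) (𝟙 K) = r • tMap f (𝟙 K) + tMap g (𝟙 K) := by
  refine HomologicalComplex.hom_ext _ _ fun n => mapBifunctor.hom_ext fun p q h => ?_
  simp only [tMap, add_f_apply, smul_f_apply, Preadditive.comp_add, Linear.comp_smul, ι_mapBifunctorMap]
  simp [MonoidalPreadditive.add_whiskerRight, MonoidalLinear.smul_whiskerRight]

theorem homologyMap_smul' {L L' : CochainComplex (ModuleCat.{u} R) ℤ} (r : R) (f : L ⟶ L') (n : ℤ) :
    homologyMap (r • f) n = r • homologyMap f n :=
  ShortComplex.homologyMap_smul ((shortComplexFunctor _ _ n).map f) r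

/-- A map out of `R` in degree zero is determined up to homotopy by the class of the image of `1`. -/
theorem exists_decomp {W : CochainComplex (ModuleCat.{u} R) ℤ} (s : R0 R ⟶ W) (θ : W.homology 0 ≃ₗ[R] R) :
    ∃ (a : R) (g t : R0 R ⟶ W), s = a • g + t ∧
      (∀ x, θ ((homologyMap s 0).hom ((singleObjHomologySelfIso (ComplexShape.up ℤ) 0 (ModuleCat.of R R)).inv.hom x)) = a * x) ∧
      (∀ K : CochainComplex (ModuleCat.{u} R) ℤ, ∀ n, homologyMap (tMap t (𝟙 K)) n = 0) := by
  let ι : ModuleCat.of R R ⟶ (R0 R).homology 0 :=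
    (singleObjHomologySelfIso (ComplexShape.up ℤ) 0 (ModuleCat.of R R)).inv
  let a : R := θ ((homologyMap s 0).hom (ι.hom (1 : R)))
  have ha : ∀ x : R, θ ((homologyMap s 0).hom (ι.hom x)) = a * x := fun x => by
    have : x = x • (1 : R) := by rw [smul_eq_mul, mul_one]
    rw [this, map_smul, map_smul, map_smul, smul_eq_mul, smul_eq_mul, mul_one, mul_comm]
  obtain ⟨z, hz⟩ := (ModuleCat.epi_iff_surjective (W.homologyπ 0)).1 inferInstance (θ.symm 1)
  let ζ : ModuleCat.of R R ⟶ W.cycles 0 := ModuleCat.ofHom (LinearMap.toSpanSingleton R _ z)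
  let σ : ModuleCat.of R R ⟶ W.cycles 0 :=
    (singleObjCyclesSelfIso (ComplexShape.up ℤ) 0 (ModuleCat.of R R)).inv ≫ cyclesMap s 0
  have hσ : σ ≫ W.homologyπ 0 = ι ≫ homologyMap s 0 := by
    rw [Category.assoc, ← homologyπ_naturality]
    rw [← Category.assoc]
    congr 1
  have h0 : (σ - a • ζ) ≫ W.homologyπ 0 = 0 := ModuleCat.hom_ext (LinearMap.ext fun x => by
    apply θ.injective
    have e1 : (W.homologyπ 0).hom (σ.hom x) = (homologyMap s 0).hom (ι.hom x) := congr($(hσ).hom x)
    have e2 : (ζ.hom x : W.cycles 0) = x • z := rfl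
    show θ ((W.homologyπ 0).hom (σ.hom x - a • ζ.hom x)) = θ 0
    rw [map_sub, map_smul, e1, e2, map_smul, map_sub, map_smul, map_smul, hz, θ.apply_symm_apply, ha, map_zero,
      smul_eq_mul, smul_eq_mul, mul_one, sub_self])
  obtain ⟨y, hy⟩ : ∃ y : ModuleCat.of R R ⟶ W.X (-1), y ≫ W.toCycles (-1) 0 = σ - a • ζ := by
    haveI : Projective (ModuleCat.of R R) := ModuleCat.projective_of_free (Module.Basis.singleton PUnit.{u+1} R)
    have hex : (ShortComplex.mk (W.toCycles (-1) 0) (W.homologyπ 0) (W.toCycles_comp_homologyπ (-1) 0)).Exact :=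
      ShortComplex.exact_of_g_is_cokernel _ (W.homologyIsCokernel (-1) 0 (by simp))
    exact ⟨hex.liftFromProjective (σ - a • ζ) h0, hex.liftFromProjective_comp _ h0⟩
  have hrel : (ComplexShape.up ℤ).Rel (-1) ((-1) + 1) := rfl
  let g : R0 R ⟶ W := mkHomFromSingle (ζ ≫ W.iCycles 0) (fun k _ => by rw [Category.assoc, W.iCycles_d, comp_zero])
  let t : R0 R ⟶ W := mkHomFromSingle (y ≫ W.d (-1) 0) (fun k _ => by rw [Category.assoc, W.d_comp_d, comp_zero])
  refine ⟨a, g, t, ?_, ha, fun K n => ?_⟩
  · have hs : s.f 0 = (singleObjXSelf (ComplexShape.up ℤ) 0 (ModuleCat.of R R)).hom ≫ σ ≫ W.iCycles 0 := by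
      rw [Category.assoc, cyclesMap_i, ← Category.assoc, ← Category.assoc]
      refine (Category.id_comp _).symm.trans (congrArg (· ≫ s.f 0) ?_)
      rw [Category.assoc, singleObjCyclesSelfIso_inv_iCycles, Iso.hom_inv_id]
    refine from_single_hom_ext ?_
    rw [hs, add_f_apply, smul_f_apply, mkHomFromSingle_f, mkHomFromSingle_f, ← W.toCycles_i (-1) 0,
      ← Category.assoc y, hy, Preadditive.sub_comp, Linear.smul_comp, Preadditive.comp_sub, Linear.comp_smul]
    abel
  · let D : CochainComplex (ModuleCat.{u} R) ℤ := double (𝟙 (ModuleCat.of R R)) hrel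
    let r : R0 R ⟶ D := mkHomFromSingle (doubleXIso₁ (𝟙 (ModuleCat.of R R)) hrel (by omega)).inv (fun k hk => by
      rw [double_d_eq_zero₀ (𝟙 (ModuleCat.of R R)) hrel _ _ (by omega), comp_zero])
    let p : D ⟶ W := mkHomFromDouble hrel (by omega) y (y ≫ W.d (-1) 0) (by simp)
      (fun k hk => by simp)
    have hrp : t = r ≫ p := by
      refine from_single_hom_ext ?_
      simp only [t, r, p, comp_f, mkHomFromSingle_f, Category.assoc]
      congr 1
      show _ = (doubleXIso₁ (𝟙 (ModuleCat.of R R)) hrel (by omega)).inv ≫ _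
      erw [mkHomFromDouble_f₁]
      rw [Iso.inv_hom_id_assoc]
    have hc : IsZero ((tT D K).homology n) :=
      KFlatLib.isZero_homology_of_contractible (KFlatLib.contractibleBimap₁
        (curriedTensor (ModuleCat.{u} R)) K (diskContractible (ModuleCat.of R R) (-1))) n
    have hm : tMap t (𝟙 K) = tMap r (𝟙 K) ≫ tMap p (𝟙 K) := by
      rw [hrp]
      exact ((curriedTensor (ModuleCat.{u} R)).map₂CochainComplex.flip.obj K).map_comp r p
    rw [hm, homologyMap_comp, hc.eq_of_tgt (homologyMap (tMap r (𝟙 K)) n) 0, zero_comp]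

variable [IsLocalRing R]

/-- A map out of `R`, inducing after tensoring a surjection onto a nonzero finite homology module. -/
theorem quasiIso_of_tensor {u W G I : CochainComplex (ModuleCat.{u} R) ℤ} (i : R0 R ≅ u)
    (ψ : u ⟶ W) (e : tT W G ⟶ I) (n₀ : ℤ) (he : Epi (homologyMap (tMap ψ (𝟙 G) ≫ e) n₀))
    (hW : ∀ n, n ≠ 0 → IsZero (W.homology n)) (θ : W.homology 0 ≃ₗ[R] R)
    (hI : Module.Finite R (I.homology n₀)) (hI' : ¬ IsZero (I.homology n₀)) : QuasiIso ψ := by
  suffices QuasiIso (i.hom ≫ ψ) from quasiIso_of_comp_left i.hom ψ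
  obtain ⟨a, g, t, hs, ha, ht⟩ := exists_decomp (i.hom ≫ ψ) θ
  by_cases hu : IsUnit a
  · refine ⟨fun n => (quasiIsoAt_iff_isIso_homologyMap _ _).2 ?_⟩
    by_cases hn : n = 0
    · subst hn
      rw [ConcreteCategory.isIso_iff_bijective]
      let eq := singleObjHomologySelfIso (ComplexShape.up ℤ) (0 : ℤ) (ModuleCat.of R R)
      have : Function.Bijective (fun x : R => θ ((homologyMap (i.hom ≫ ψ) 0).hom (eq.inv.hom x))) := by
        simp only [eq, ha]
        exact (Units.mulLeft hu.unit).bijective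
      exact (Function.Bijective.of_comp_iff _ (ConcreteCategory.bijective_of_isIso eq.inv)).1
        ((θ.bijective.of_comp_iff' _).1 this)
    · exact IsZero.isIso (isZero_single_obj_homology _ _ _ _ hn) (hW n hn) _
  · exfalso
    haveI := he
    have hm : homologyMap (tMap i.hom (𝟙 G) ≫ tMap ψ (𝟙 G) ≫ e) n₀ = a • homologyMap (tMap g (𝟙 G) ≫ e) n₀ := by
      have : tMap (i.hom ≫ ψ) (𝟙 G) = tMap i.hom (𝟙 G) ≫ tMap ψ (𝟙 G) :=
        ((curriedTensor (ModuleCat.{u} R)).map₂CochainComplex.flip.obj G).map_comp i.hom ψ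
      rw [← Category.assoc, ← this, hs, tMap_smul_add, Preadditive.add_comp, homologyMap_add,
        Linear.smul_comp, homologyMap_smul', homologyMap_comp (tMap t (𝟙 G)), ht, zero_comp, add_zero]
    haveI : IsIso (tMap i.hom (𝟙 G)) :=
      inferInstanceAs (IsIso (((curriedTensor (ModuleCat.{u} R)).map₂CochainComplex.flip.obj G).map i.hom))
    haveI : Epi (homologyMap (tMap i.hom (𝟙 G) ≫ tMap ψ (𝟙 G) ≫ e) n₀) := by
      rw [homologyMap_comp]
      infer_instance
    have hsurj := (ModuleCat.epi_iff_surjective _).1 this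
    haveI := hI
    have htop : (⊤ : Submodule R (I.homology n₀)) ≤ IsLocalRing.maximalIdeal R • ⊤ := fun x _ => by
      obtain ⟨y, rfl⟩ := hsurj x
      rw [hm]
      exact Submodule.smul_mem_smul ((IsLocalRing.mem_maximalIdeal a).2 hu) trivial
    have := Submodule.eq_bot_of_le_smul_of_le_jacobson_bot _ _ Module.Finite.fg_top htop
      (IsLocalRing.maximalIdeal_le_jacobson _)
    haveI : Subsingleton (I.homology n₀) := (Submodule.subsingleton_iff R).1 (subsingleton_of_bot_eq_top this.symm)
    exact hI' (ModuleCat.isZero_of_subsingleton _)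

end BidualSchLib
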