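import Groth.Agent.BidualSchLib.Main

/-!
# Internal homs into bounded complexes of injectives
-/

set_option autoImplicit false
set_option linter.all false
set_option backward.isDefEq.respectTransparency false
set_option backward.isDefEq.respectTransparency.types false
set_option maxHeartbeats 1000000

universe u

open CategoryTheory CategoryTheory.Limits AlgebraicGeometry HomologicalComplex Pretriangulated
open Groth.Agent Groth.Agent.DerLib Groth.Agent.PerfDualLib

attribute [local instance] HasDerivedCategory.standard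

noncomputable section

namespace BidualSchLib

variable {X : Scheme.{u}}

theorem bddOn_top (I : Cx X) [I.IsKInjective] (a b : ℤ) (hv : ∀ q, q < a ∨ b < q → IsZero (I.X q)) :
    BddOn (⊤ : X.Opens) I a b :=
  ⟨(rJ (⊤ : X.Opens).ι).obj I, isKInjective_rJ _ I,
    fun q hq => (Scheme.Modules.restrictFunctor _).map_isZero (hv q hq), ⟨PerfLib.resDQIso _ I⟩⟩

variable {I : Cx X} [I.IsKInjective] {a b : ℤ}

theorem isZero_homology_iG_high (hI : BddOn (⊤ : X.Opens) I a b) {L : Cx X} {c : ℤ}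
    (hL : ∀ q, q < c → IsZero (L.homology q)) (i : ℤ) (hi : b < i + c) : IsZero ((iG L I).homology i) :=
  (KFlatLib.isZero_homology_iff _ i).2 fun _ => isZero_iG_high hI
    (fun y _ q hq => isZero_stalk_of_isZero (hL q hq) y) trivial i hi

theorem isZero_homology_iG_low (hI : BddOn (⊤ : X.Opens) I a b) {L : Cx X} {c : ℤ}
    (hL : ∀ q, c ≤ q → IsZero (L.homology q)) (i : ℤ) (hi : i + (c - 1) < a) : IsZero ((iG L I).homology i) :=
  (KFlatLib.isZero_homology_iff _ i).2 fun _ => isZero_iG_low hI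
    (fun y _ q hq => isZero_stalk_of_isZero (hL q hq) y) trivial i hi

theorem isCoh_homology_iG_bdd [IsLocallyNoetherian X] (hI : BddOn (⊤ : X.Opens) I a b)
    [(DerivedCategory.Q.obj I).IsGE a] (hIc : DCoh.IsCohD (DerivedCategory.Q.obj I)) {L : Cx X}
    (hL : ∀ n, Coh.IsCoh (L.homology n)) (i : ℤ) : Coh.IsCoh ((iG L I).homology i) := by
  let m : ℤ := b - i
  let f := L.ιTruncLE m
  let S := CochainComplex.mappingCone.triangleRotateShortComplex f
  let hS : KFlatLib.DegSplit S := CochainComplex.mappingCone.triangleRotateShortComplexSplitting f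
  have hz : ∀ q, m < q → IsZero ((L.truncLE m).homology q) := fun q hq =>
    (exactAt_iff_isZero_homology _ _).1 (ExactAt.of_isZero ((L.truncLE m).isZero_of_isStrictlyLE m q hq))
  have hcone : ∀ q, q < m + 1 → IsZero (S.X₂.homology q) := fun q hq => by
    refine isZero_cone_homology f q ?_ ?_
    · haveI := CochainComplex.quasiIsoAt_ιTruncLE L m q (by omega)
      exact inferInstanceAs (IsIso (homologyMap (L.ιTruncLE m) q))
    · by_cases hq1 : q + 1 ≤ m
      · haveI := CochainComplex.quasiIsoAt_ιTruncLE L m (q + 1) hq1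
        exact inferInstanceAs (Mono (homologyMap (L.ιTruncLE m) (q + 1)))
      · exact ⟨fun u v _ => (hz (q + 1) (by omega)).eq_of_tgt _ _⟩
  let L' := (L.truncLE m)⟦(1 : ℤ)⟧
  have hz' : ∀ n, m - 1 < n → IsZero (L'.homology n) := fun n hn => (hz (1 + n) (by omega)).of_iso
    (((homologyFunctor X.Modules (ComplexShape.up ℤ) 0).shiftIso 1 n (1 + n) rfl).app (L.truncLE m))
  have hc' : DCoh.IsCohD (DerivedCategory.Q.obj L') := fun n => by
    refine QCohLib.isCoh_of_iso ((DerivedCategory.homologyFunctorFactors _ n).app L' ≪≫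
      ((homologyFunctor X.Modules (ComplexShape.up ℤ) 0).shiftIso 1 n (1 + n) rfl).app
        (L.truncLE m)).symm ?_
    show Coh.IsCoh ((L.truncLE m).homology (1 + n))
    by_cases h : 1 + n ≤ m
    · haveI := CochainComplex.quasiIsoAt_ιTruncLE L m (1 + n) h
      exact QCohLib.isCoh_of_iso (asIso (homologyMap (L.ιTruncLE m) (1 + n))).symm (hL (1 + n))
    · exact DevissLib.isCoh_of_isZero (hz _ (by omega))
  haveI : (DerivedCategory.Q.obj L').IsLE (m - 1) := (DerivedCategory.isLE_iff _ (m - 1)).2 fun n hn =>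
    (hz' n hn).of_iso ((DerivedCategory.homologyFunctorFactors _ n).app L')
  haveI := KFlatLib.hasLTensorCx L'
  haveI := hasRSheafHom L'
  obtain ⟨r⟩ := nonempty_rSheafHom_iso L' I (L := DerivedCategory.Q.obj I) (Iso.refl _)
  have h3 : Coh.IsCoh ((iG L' I).homology (i + 1)) :=
    QCohLib.isCoh_of_iso ((DerivedCategory.homologyFunctor _ (i + 1)).mapIso r ≪≫
        (DerivedCategory.homologyFunctorFactors _ (i + 1)).app _)
      (PerfDualLib.isCoh_HD_rSheafHom_of_isPC L' (PerfDualLib.isPC_of_isCohD _ (m - 1) (a - i - 2) hc')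
        _ hIc a (i + 1) (by omega))
  have hG := Gen.shortExact_G (T := Tb X) hS I
  exact QCohLib.isCoh_of_iso (hG.δIso i (i + 1) rfl
    (isZero_homology_iG_high hI hcone i (by omega)) (isZero_homology_iG_high hI hcone (i + 1) (by omega))).symm h3

theorem main_bdd [IsLocallyNoetherian X] (I : Cx X) (hIinj : ∀ i : ℤ, Injective (I.X i))
    (hIbdd : ∃ a b : ℤ, ∀ i : ℤ, (i < a ∨ b < i) → IsZero (I.X i))
    (K : DCoh.D X) (hK : Nonempty (DCoh.toD X I ≅ K)) (hKcoh : ∀ i : ℤ, Coh.IsCoh (DCoh.HD K i))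
    (L : Cx X) (hL : ∀ i : ℤ, Coh.IsCoh (DCoh.HD (DCoh.toD X L) i))
    [DCoh.HasLTensorCx L] [DCoh.HasRSheafHom L] : (∀ i : ℤ, Coh.IsCoh (DCoh.HD ((DCoh.RSheafHom L).obj K) i)) ∧
      ((∃ c : ℤ, ∀ i : ℤ, i < c → IsZero (DCoh.HD (DCoh.toD X L) i)) →
        ∃ d : ℤ, ∀ i : ℤ, d < i → IsZero (DCoh.HD ((DCoh.RSheafHom L).obj K) i)) ∧
      ((∃ c : ℤ, ∀ i : ℤ, c < i → IsZero (DCoh.HD (DCoh.toD X L) i)) →
        ∃ d : ℤ, ∀ i : ℤ, i < d → IsZero (DCoh.HD ((DCoh.RSheafHom L).obj K) i)) := by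
  obtain ⟨eK⟩ := hK
  obtain ⟨a, b, hv⟩ := hIbdd
  haveI : I.IsStrictlyGE a := (CochainComplex.isStrictlyGE_iff _ a).2 fun n hn => hv n (Or.inl hn)
  haveI := hIinj
  haveI : I.IsKInjective := CochainComplex.isKInjective_of_injective I a
  haveI : (DerivedCategory.Q.obj I).IsGE a := inferInstance
  have hI := bddOn_top I a b hv
  obtain ⟨r⟩ := nonempty_rSheafHom_iso L I eK
  let e := fun i : ℤ => (DerivedCategory.homologyFunctor _ i).mapIso r ≪≫
      (DerivedCategory.homologyFunctorFactors _ i).app (iG L I)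
  let eL := fun i : ℤ => (DerivedCategory.homologyFunctorFactors X.Modules i).app L
  refine ⟨fun i => QCohLib.isCoh_of_iso (e i).symm (isCoh_homology_iG_bdd hI
      (fun n => QCohLib.isCoh_of_iso ((DerivedCategory.homologyFunctor _ n).mapIso eK).symm (hKcoh n))
      (fun n => QCohLib.isCoh_of_iso (eL n) (hL n)) i), fun ⟨c, hc⟩ => ?_, fun ⟨c, hc⟩ => ?_⟩
  · exact ⟨b - c, fun i hi => (isZero_homology_iG_high hI (c := c)
      (fun q hq => (hc q hq).of_iso (eL q).symm) i (by omega)).of_iso (e i)⟩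
  · exact ⟨a - c, fun i hi => (isZero_homology_iG_low hI (c := c + 1)
      (fun q hq => (hc q (by omega)).of_iso (eL q).symm) i (by omega)).of_iso (e i)⟩

end BidualSchLib
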