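import Groth.Agent.BidualSchLib.Transfer
import Groth.Agent.BidualSchLib.Exists
import Groth.Agent.AffDualLib.Main
import Groth.Agent.BidualUnbLib.Basic
import Groth.Agent.DualCxLib.InjAmp
import Groth.Agent.ConsLib.ModLoci
import Groth.Agent.AlgzCohLib.Complete
import Groth.Prelude.Def_DualSch

/-!
# Internal homs into a dualizing object on an affine chart
-/

set_option autoImplicit false
set_option linter.all false
set_option backward.isDefEq.respectTransparency false
set_option backward.isDefEq.respectTransparency.types false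
set_option maxHeartbeats 1000000

universe u

open CategoryTheory CategoryTheory.Limits AlgebraicGeometry HomologicalComplex
open Groth.Agent Groth.Agent.DerLib Groth.Agent.PerfDualLib DTen

attribute [local instance] HasDerivedCategory.standard

noncomputable section

namespace BidualSchLib

theorem finite_of_isCoh_tilde {A : Type u} [CommRing A] {N : ModuleCat.{u} A}
    (h : Coh.IsCoh ((tilde.functor (CommRingCat.of A)).obj N)) : Module.Finite A N := by
  haveI : Module.Finite A ((AlgzCohLib.ΓA A).obj ((tilde.functor (CommRingCat.of A)).obj N)) :=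
    AlgzCohLib.finite_ΓA h
  haveI : Module.Finite A ((AlgzCohLib.TA A ⋙ AlgzCohLib.ΓA A).obj N) :=
    inferInstanceAs (Module.Finite A ((AlgzCohLib.ΓA A).obj ((tilde.functor (CommRingCat.of A)).obj N)))
  exact Module.Finite.equiv (asIso ((AlgzCohLib.adjA A).unit.app N)).toLinearEquiv.symm

theorem hasRHomCx {A : Type u} [CommRing A] [HasLTen A] [HasRHom A] (K : DRing.Cx A) : DRing.HasRHomCx K := by
  haveI := RHomCompLib.isRightDerivedFunctor_Q_of_isIso _ (RHomCompLib.θNat K) (RHomCompLib.isIso_θNat K)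
  exact Functor.HasRightDerivedFunctor.mk' _ (RHomCompLib.θNat K)

variable {X : Scheme.{u}}
  [∀ (U : Scheme.{u}) (j : U ⟶ X) [IsOpenImmersion j], PreservesFiniteLimits (Scheme.Modules.restrictFunctor j)]
  [∀ (R : CommRingCat.{u}), PreservesFiniteLimits (tilde.functor R)]
  {A : Type u} [CommRing A] [IsNoetherianRing A] (j : Spec (CommRingCat.of A) ⟶ X) [IsOpenImmersion j]
  (I : Cx X) [I.IsKInjective] {ω : Dual.D A} (hω : Dual.IsDualizing A ω)
  (eI : (DCoh.restrictD j).obj (DerivedCategory.Q.obj I) ≅ (DCoh.tildeD (CommRingCat.of A)).obj ω)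

include hω eI

theorem exists_kInj_model : ∃ (a b : ℤ) (J : DRing.Cx A), DRing.VanishesOutside J a b ∧ DRing.TermwiseInjective J ∧
    ((AffDualLib.tA A).obj J).IsKInjective ∧ Nonempty (DerivedCategory.Q.obj J ≅ ω) ∧
      Nonempty (DerivedCategory.Q.obj ((rJ j).obj I) ≅ DerivedCategory.Q.obj ((AffDualLib.tA A).obj J)) := by
  obtain ⟨a, b, J, hJ, hinj, ⟨eJ⟩⟩ := DualCxLib.hasFiniteInjDim_of_ext hω.finite_injective_dimension
  haveI : ∀ n, Injective (((AffDualLib.tA A).obj J).X n) := fun n =>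
    haveI := hinj n
    InjModLib.injective_tilde (R := CommRingCat.of A) (J.X n)
  haveI : ((AffDualLib.tA A).obj J).IsStrictlyGE a := (CochainComplex.isStrictlyGE_iff _ a).2 fun n hn =>
    (tilde.functor (CommRingCat.of A)).map_isZero (hJ n (Or.inl hn))
  exact ⟨a, b, J, hJ, hinj, CochainComplex.isKInjective_of_injective _ a, ⟨eJ⟩,
    ⟨((Scheme.Modules.restrictFunctor j).mapDerivedCategoryFactors.app I).symm ≪≫ eI ≪≫
      (DCoh.tildeD (CommRingCat.of A)).mapIso eJ.symm ≪≫
      (tilde.functor (CommRingCat.of A)).mapDerivedCategoryFactors.app J⟩⟩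

theorem exists_bddOn : ∃ a b : ℤ, BddOn j.opensRange I a b := by
  obtain ⟨a, b, J, hJ, hinj, hJK, -, ⟨e⟩⟩ := exists_kInj_model j I hω eI
  haveI := hJK
  let g := (Scheme.Hom.isoOpensRange j).inv
  obtain ⟨c₁⟩ := PerfLib.nonempty_resD_comp g j (DerivedCategory.Q.obj I)
  obtain ⟨c₂⟩ := PerfLib.nonempty_resD_congr (Scheme.Hom.isoOpensRange_inv_comp j) (DerivedCategory.Q.obj I)
  refine ⟨a, b, (rJ g).obj ((AffDualLib.tA A).obj J), isKInjective_rJ g _, fun q hq => ?_, ⟨?_⟩⟩
  · exact (Scheme.Modules.restrictFunctor g).map_isZero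
      ((tilde.functor (CommRingCat.of A)).map_isZero (hJ q hq))
  · exact c₂.symm ≪≫ c₁ ≪≫ (PerfLib.resD g).mapIso (PerfLib.resDQIso j I ≪≫ e) ≪≫ PerfLib.resDQIso g _

/-- On a chart, internal homs of coherent complexes into the dualizing object come from modules. -/
theorem exists_value [HasLTen A] [HasLTen₃ A] [IsSymMonoidal A] [HasRHom A]
    (C : Cx X) (hC : ∀ n, Coh.IsCoh (C.homology n)) :
    ∃ K : Dual.D A, (∀ i, Module.Finite A ((DTenLib.Point.hH A i).obj K)) ∧
      Nonempty ((DCoh.restrictD j).obj (DerivedCategory.Q.obj C) ≅ (DCoh.tildeD (CommRingCat.of A)).obj K) ∧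
      Nonempty ((DCoh.restrictD j).obj (DerivedCategory.Q.obj (iG C I)) ≅
        (DCoh.tildeD (CommRingCat.of A)).obj ((RHomR A K).obj ω)) := by
  obtain ⟨a, b, J, hJ, hinj, hJK, ⟨eJ⟩, ⟨e⟩⟩ := exists_kInj_model j I hω eI
  haveI := hJK
  let T := DCoh.tildeD (CommRingCat.of A)
  let E := (DCoh.restrictD j).obj (DerivedCategory.Q.obj C)
  have hE : ∀ n, Coh.IsCoh (DCoh.HD E n) := fun n => by
    haveI := (hC n).1
    refine QCohLib.isCoh_of_iso (DCohRestrLib.restrictHDIso j (DerivedCategory.Q.obj C) n ≪≫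
      (Scheme.Modules.restrictFunctor j).mapIso ((DerivedCategory.homologyFunctorFactors _ n).app C) ≪≫
      (Scheme.Modules.restrictFunctorIsoPullback j).app (C.homology n)).symm ?_
    exact ⟨KFlatLib.isQCoh_pullback j _, ConsLib.isFT_pullback j _ (hC n).2⟩
  obtain ⟨M, ⟨eM⟩⟩ := (TildeDerLib.isQCohD_iff (CommRingCat.of A) E).1 fun n => (hE n).1
  obtain ⟨K, ⟨eK⟩⟩ : ∃ K : DRing.Cx A, Nonempty (DerivedCategory.Q.obj K ≅ M) :=
    ⟨_, ⟨DerivedCategory.Q.objObjPreimageIso M⟩⟩
  have hfin : ∀ i, Module.Finite A ((DTenLib.Point.hH A i).obj (DerivedCategory.Q.obj K)) := fun i => by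
    refine finite_of_isCoh_tilde (A := A) ?_
    exact QCohLib.isCoh_of_iso ((DerivedCategory.homologyFunctor _ i).mapIso (eM.symm ≪≫ T.mapIso eK.symm) ≪≫
      TildeDerLib.tildeHIso (CommRingCat.of A) i (DerivedCategory.Q.obj K)) (hE i)
  refine ⟨DerivedCategory.Q.obj K, hfin, ⟨eM.symm ≪≫ T.mapIso eK.symm⟩, ?_⟩
  haveI := hasRHomCx K
  let E' := (AffDualLib.tA A).obj K
  haveI := KFlatLib.hasLTensorCx E'
  haveI := hasRSheafHom E'
  let fT := (tilde.functor (CommRingCat.of A)).mapDerivedCategoryFactors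
  obtain ⟨d⟩ := AffDualLib.nonempty_affine_duality A K hfin ω
    (DualCxLib.hasFiniteInjDim_of_ext hω.finite_injective_dimension) E' ⟨(fT.app K).symm⟩
  obtain ⟨r⟩ := nonempty_rSheafHom_iso E' ((AffDualLib.tA A).obj J) (L := T.obj ω)
    ((fT.app J).symm ≪≫ T.mapIso eJ)
  obtain ⟨χ⟩ := RHomCompLib.nonempty_RHomCx_iso K
  obtain ⟨t⟩ := nonempty_rJ_iG j C I
  haveI := isKInjective_rJ j I
  obtain ⟨k₁⟩ := nonempty_iG_congr_right ((rJ j).obj C) e
  obtain ⟨k₂⟩ := nonempty_iG_congr (K := (rJ j).obj C) (K' := E')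
    (((Scheme.Modules.restrictFunctor j).mapDerivedCategoryFactors.app C).symm ≪≫ eM.symm ≪≫
      T.mapIso eK.symm ≪≫ fT.app K) ((AffDualLib.tA A).obj J)
  exact ⟨(Scheme.Modules.restrictFunctor j).mapDerivedCategoryFactors.app (iG C I) ≪≫
    DerivedCategory.Q.mapIso t ≪≫ k₁ ≪≫ k₂ ≪≫ r.symm ≪≫ d ≪≫ T.mapIso (χ.app ω)⟩

/-- On a chart, internal homs of coherent complexes into the dualizing object are coherent. -/
theorem isCoh_restrict_iG (C : Cx X) (hC : ∀ n, Coh.IsCoh (C.homology n)) (i : ℤ) :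
    Coh.IsCoh ((Scheme.Modules.restrictFunctor j).obj ((iG C I).homology i)) := by
  obtain ⟨_, _, _, _⟩ := DualCxLib.exists_binders A
  obtain ⟨K, hK, -, ⟨v⟩⟩ := exists_value j I hω eI C hC
  haveI := BidualUnbLib.finite_RHom hω hK i
  refine QCohLib.isCoh_of_iso ((TildeDerLib.tildeHIso (CommRingCat.of A) i _).symm ≪≫
    (DerivedCategory.homologyFunctor _ i).mapIso v.symm ≪≫ DCohRestrLib.restrictHDIso j _ i ≪≫
    (Scheme.Modules.restrictFunctor j).mapIso ((DerivedCategory.homologyFunctorFactors _ i).app (iG C I))) ?_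
  exact AlgzCohLib.isCoh_tilde (A := A) ((DTenLib.Point.hH A i).obj ((RHomR A K).obj ω))

end BidualSchLib
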