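import Groth.Agent.PerfDualLib.Props
import Groth.Agent.KFlatLib.QCohTensor
import Mathlib.Algebra.Homology.HomologySequenceLemmas

/-!
# The evaluation map into the double dual
-/

set_option autoImplicit false
set_option linter.all false
set_option backward.isDefEq.respectTransparency false
set_option backward.isDefEq.respectTransparency.types false
set_option maxHeartbeats 1000000

universe u

open CategoryTheory CategoryTheory.Limits AlgebraicGeometry HomologicalComplex Pretriangulated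
open Groth.Agent Groth.Agent.DerLib Groth.Agent.PerfDualLib
open scoped MonoidalCategory

attribute [local instance] HasDerivedCategory.standard

noncomputable section

namespace BidualSchLib

variable {X : Scheme.{u}}

/-- The symmetry of total tensor products is natural. -/
theorem tCxFlip_natural {K K' L L' : Cx X} (f : K ⟶ K') (g : L ⟶ L') :
    mapBifunctorMap g f (DCoh.tensorBi (X := X)) (ComplexShape.up ℤ) ≫ (KFlatLib.tCxFlip K' L').hom =
      (KFlatLib.tCxFlip K L).hom ≫ mapBifunctorMap f g (DCoh.tensorBi (X := X)) (ComplexShape.up ℤ) := by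
  dsimp only [KFlatLib.tCxFlip, Iso.trans_hom]
  have h₁ := KFlatLib.totalMapIso_natural (DCoh.tensorBi (X := X)).flip (DCoh.tensorBi (X := X))
    (𝟭 _) (𝟭 _) (𝟭 _) (fun a b => KFlatLib.tensSwap b a)
    (fun f b => (DCoh.shP.map_comp _ _).symm.trans ((congrArg DCoh.shP.map
      (BraidedCategory.braiding_naturality_left (DCoh.toP.map f) (DCoh.toP.obj b))).trans
        (DCoh.shP.map_comp _ _)))
    (fun a _ _ g => (DCoh.shP.map_comp _ _).symm.trans ((congrArg DCoh.shP.map
      (BraidedCategory.braiding_naturality_right (DCoh.toP.obj a) (DCoh.toP.map g))).trans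
        (DCoh.shP.map_comp _ _))) g f
  refine ((Category.assoc _ _ _).symm.trans (congrArg
    (· ≫ (mapBifunctorFlipIso K' L' (DCoh.tensorBi (X := X)) (ComplexShape.up ℤ)).hom) h₁)).trans ?_
  refine (Category.assoc _ _ _).trans ?_
  refine Eq.trans ?_ (Category.assoc _ _ _).symm
  congr 1
  exact mapBifunctorFlipIso_hom_naturality _ _ _ _

/-- The evaluation `C ⟶ Hom(Hom(C, I), I)`. -/
def ev (C I : Cx X) : C ⟶ iG (iG C I) I :=
  (Gen.gAdj (Tb X) (iG C I)).homEquiv C I
    ((KFlatLib.tCxFlip (iG C I) C).hom ≫ (Gen.gAdj (Tb X) C).counit.app I)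

theorem adjunct_ev (C I : Cx X) :
    Gen.adjunct (T := Tb X) (ev C I) =
      (KFlatLib.tCxFlip (iG C I) C).hom ≫ (Gen.gAdj (Tb X) C).counit.app I :=
  Equiv.symm_apply_apply _ _

theorem ev_natural {C C' : Cx X} (κ : C ⟶ C') (I : Cx X) :
    κ ≫ ev C' I = ev C I ≫ gm (gm κ I) I := by
  refine Gen.adjunct_injective (T := Tb X) ?_
  rw [Gen.adjunct_comp, Gen.adjunct_comp_Gmap, adjunct_ev, adjunct_ev]
  have h1 := tCxFlip_natural (𝟙 (iG C' I)) κ
  have h2 := tCxFlip_natural (gm κ I) (𝟙 C)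
  have h3 : mapBifunctorMap (gm κ I) (𝟙 C) (DCoh.tensorBi (X := X)) (ComplexShape.up ℤ) ≫
      (Gen.gAdj (Tb X) C).counit.app I =
      mapBifunctorMap (𝟙 (iG C' I)) κ (DCoh.tensorBi (X := X)) (ComplexShape.up ℤ) ≫
      (Gen.gAdj (Tb X) C').counit.app I :=
    conjugateEquiv_counit (Gen.gAdj (Tb X) C') (Gen.gAdj (Tb X) C) ((Tb X).map₂CochainComplex.flip.map κ) I
  change mapBifunctorMap κ (𝟙 (iG C' I)) (DCoh.tensorBi (X := X)) (ComplexShape.up ℤ) ≫ _ =
    mapBifunctorMap (𝟙 C) (gm κ I) (DCoh.tensorBi (X := X)) (ComplexShape.up ℤ) ≫ _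
  rw [reassoc_of% h1, reassoc_of% h2, h3]

theorem GG_zero (I : Cx X) {S : ShortComplex (Cx X)} :
    gm (gm S.f I) I ≫ gm (gm S.g I) I = 0 :=
  (Gen.Gmap_comp_app (T := Tb X) _ _ I).trans
    ((congrArg (fun k => gm k I) (Gen.gSeq (Tb X) S I).zero).trans (Gen.Gmap_zero_app (T := Tb X) I))

/-- The sequence of double duals. -/
abbrev ggSeq (S : ShortComplex (Cx X)) (I : Cx X) : ShortComplex (Cx X) :=
  ShortComplex.mk (gm (gm S.f I) I) (gm (gm S.g I) I) (GG_zero I)

/-- The evaluation of a sequence. -/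
def evSeq (S : ShortComplex (Cx X)) (I : Cx X) : S ⟶ ggSeq S I where
  τ₁ := ev S.X₁ I
  τ₂ := ev S.X₂ I
  τ₃ := ev S.X₃ I
  comm₁₂ := (ev_natural S.f I).symm
  comm₂₃ := (ev_natural S.g I).symm

theorem nonempty_degSplit_gg {S : ShortComplex (Cx X)} (hS : KFlatLib.DegSplit S) (I : Cx X) :
    Nonempty (KFlatLib.DegSplit (ggSeq S I)) := by
  obtain ⟨hG⟩ := Gen.nonempty_degSplit_G (T := Tb X) hS I
  exact Gen.nonempty_degSplit_G (T := Tb X) hG I

/-- The stalks of the evaluation at `x`. -/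
abbrev evAt (C I : Cx X) (x : X) :=
  (KFlatLib.stalkCx X x).map (ev C I)

/-- The evaluation is a quasi-isomorphism at the points of `U`. -/
def Refl (U : X.Opens) (I C : Cx X) : Prop := QisOn U (ev C I)

variable {U : X.Opens} {I : Cx X}

theorem refl_ext {S : ShortComplex (Cx X)} (hS : KFlatLib.DegSplit S) :
    (Refl U I S.X₂ → Refl U I S.X₃ → Refl U I S.X₁) ∧
    (Refl U I S.X₁ → Refl U I S.X₃ → Refl U I S.X₂) ∧
    (Refl U I S.X₁ → Refl U I S.X₂ → Refl U I S.X₃) := by
  obtain ⟨hGG⟩ := nonempty_degSplit_gg hS I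
  have key : ∀ x : X,
      ∃ (T T' : Triangle (DerivedCategory (ModuleCat.{u} (X.presheaf.stalk x)))) (_ : T ∈ distinguishedTriangles)
        (_ : T' ∈ distinguishedTriangles) (φ : T ⟶ T'),
        (IsIso φ.hom₁ ↔ QuasiIso (evAt S.X₁ I x)) ∧ (IsIso φ.hom₂ ↔ QuasiIso (evAt S.X₂ I x)) ∧
          (IsIso φ.hom₃ ↔ QuasiIso (evAt S.X₃ I x)) := fun x => by
    have h₁ := shortExact_stalk (KFlatLib.shortExact_of_degSplit hS) x
    have h₂ := shortExact_stalk (KFlatLib.shortExact_of_degSplit hGG) x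
    exact ⟨_, _, DerivedCategory.triangleOfSES_distinguished h₁,
      DerivedCategory.triangleOfSES_distinguished h₂,
      DerivedCategory.triangleOfSES.map h₁ h₂ ((KFlatLib.stalkCx X x).mapShortComplex.map (evSeq S I)),
      DerivedCategory.isIso_Q_map_iff_quasiIso _ _, DerivedCategory.isIso_Q_map_iff_quasiIso _ _,
      DerivedCategory.isIso_Q_map_iff_quasiIso _ _⟩
  refine ⟨fun h h' x hx => ?_, fun h h' x hx => ?_, fun h h' x hx => ?_⟩
  · obtain ⟨T, T', hT, hT', φ, e₁, e₂, e₃⟩ := key x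
    exact e₁.1 (isIso₁_of_isIso₂₃ φ hT hT' (e₂.2 (h x hx)) (e₃.2 (h' x hx)))
  · obtain ⟨T, T', hT, hT', φ, e₁, e₂, e₃⟩ := key x
    exact e₂.1 (isIso₂_of_isIso₁₃ φ hT hT' (e₁.2 (h x hx)) (e₃.2 (h' x hx)))
  · obtain ⟨T, T', hT, hT', φ, e₁, e₂, e₃⟩ := key x
    exact e₃.1 (isIso₃_of_isIso₁₂ φ hT hT' (e₁.2 (h x hx)) (e₂.2 (h' x hx)))

theorem refl_contractible {W : Cx X} (hW : Homotopy (𝟙 W) 0) : Refl U I W := fun x hx => by
  obtain ⟨h₁⟩ := Gen.nonempty_contractible_G (T := Tb X) hW I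
  obtain ⟨h₂⟩ := Gen.nonempty_contractible_G (T := Tb X) h₁ I
  exact ⟨fun n => (quasiIsoAt_iff_isIso_homologyMap _ _).2
    ((acyOn_of_contractible U hW x hx n).isIso (acyOn_of_contractible U h₂ x hx n) _)⟩

theorem refl_qis [I.IsKInjective] {K K' : Cx X} (κ : K ⟶ K') (hκ : QisOn U κ) :
    Refl U I K ↔ Refl U I K' := by
  have hGG := qisOn_gm (qisOn_gm hκ I) I
  refine ⟨fun h x hx => ?_, fun h x hx => ?_⟩
  all_goals
    have e : (KFlatLib.stalkCx X x).map κ ≫ evAt K' I x =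
        evAt K I x ≫ (KFlatLib.stalkCx X x).map (gm (gm κ I) I) := by
      rw [← Functor.map_comp, ← Functor.map_comp, ev_natural]
    haveI := hκ x hx
    haveI := hGG x hx
  · haveI := h x hx
    haveI : QuasiIso ((KFlatLib.stalkCx X x).map κ ≫ evAt K' I x) := by rw [e]; infer_instance
    exact quasiIso_of_comp_left ((KFlatLib.stalkCx X x).map κ) _
  · haveI := h x hx
    haveI : QuasiIso (evAt K I x ≫ (KFlatLib.stalkCx X x).map (gm (gm κ I) I)) := by
      rw [← e]; infer_instance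
    exact quasiIso_of_comp_right _ ((KFlatLib.stalkCx X x).map (gm (gm κ I) I))

theorem loc_refl [I.IsKInjective] (h : Refl U I (unitCx X)) : Loc U (Refl U I) where
  qis κ hκ := refl_qis κ hκ
  contractible hW := refl_contractible hW
  ext₁ hS := (refl_ext hS).1
  ext₂ hS := (refl_ext hS).2.1
  ext₃ hS := (refl_ext hS).2.2
  unit := h

end BidualSchLib
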