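import Groth.Agent.BidualSchLib.Ev
import Groth.Agent.PerfDualLib.PseudoC
import Groth.Agent.DCohRestrLib.RHomRestr

/-!
# Bounds for double duals on an open where the dualizing object is bounded
-/

set_option autoImplicit false
set_option linter.all false
set_option backward.isDefEq.respectTransparency false
set_option backward.isDefEq.respectTransparency.types false
set_option maxHeartbeats 1000000

universe u

open CategoryTheory CategoryTheory.Limits AlgebraicGeometry HomologicalComplex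
open Groth.Agent Groth.Agent.DerLib Groth.Agent.PerfDualLib

attribute [local instance] HasDerivedCategory.standard

noncomputable section

namespace BidualSchLib

variable {X : Scheme.{u}}

theorem isLE_restrictD (U : X.Opens) (E : DCoh.D X) (n : ℤ) [E.IsLE n] :
    ((DCoh.restrictD U.ι).obj E).IsLE n := by
  rw [DerivedCategory.isLE_iff]
  intro i hi
  exact ((Scheme.Modules.restrictFunctor U.ι).map_isZero
    (DerivedCategory.isZero_of_isLE E n i hi)).of_iso (DCohRestrLib.restrictHDIso U.ι E i)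

theorem isGE_restrictD (U : X.Opens) (E : DCoh.D X) (n : ℤ) [E.IsGE n] :
    ((DCoh.restrictD U.ι).obj E).IsGE n := by
  rw [DerivedCategory.isGE_iff]
  intro i hi
  exact ((Scheme.Modules.restrictFunctor U.ι).map_isZero
    (DerivedCategory.isZero_of_isGE E n i hi)).of_iso (DCohRestrLib.restrictHDIso U.ι E i)

theorem support_Q {U : X.Opens} {S : Cx X}
    (hS : ∀ y : X, y ∉ U → ∀ n : ℤ, IsZero (((KFlatLib.stalkCx X y).obj S).homology n)) (n : ℤ) :
    CohB1.support (DCoh.HD (DerivedCategory.Q.obj S) n) ⊆ (U : Set X) := by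
  intro y hy
  by_contra hyU
  apply hy
  refine (DCohRestrLib.subsingleton_stalk_of_iso
    ((DerivedCategory.homologyFunctorFactors X.Modules n).app S) y).2 ?_
  exact ModuleCat.subsingleton_of_isZero ((hS y hyU n).of_iso (KFlatLib.stalkHomologyIso S y n).symm)

variable (U : X.Opens)

/-- A map into a K-injective complex out of a complex supported on `U` is null homotopic as soon as
there are no morphisms on `U`. -/
theorem null_of_local {S I : Cx X} [I.IsKInjective]
    (hS : ∀ y : X, y ∉ U → ∀ n : ℤ, IsZero (((KFlatLib.stalkCx X y).obj S).homology n))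
    (h : ∀ φ : (DCoh.restrictD U.ι).obj (DerivedCategory.Q.obj S) ⟶
      (DCoh.restrictD U.ι).obj (DerivedCategory.Q.obj I), φ = 0)
    (b : S ⟶ I) : Nonempty (Homotopy b 0) := by
  haveI := PerfCompLib.preservesFiniteLimits_extZero U
  let R := DCoh.restrictD U.ι
  let adj := DCohRestrLib.adjD U
  let E := DerivedCategory.Q.obj S
  haveI : IsIso (adj.counit.app E) := by
    haveI := DCohRestrLib.isIso_adjD_unit U (R.obj E)
    haveI : IsIso (R.map (adj.counit.app E)) :=
      @IsIso.of_isIso_comp_left _ _ _ _ _ (adj.unit.app (R.obj E)) _ inferInstance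
        (by rw [adj.right_triangle_components]; exact (Iso.refl _).isIso_hom)
    exact DCohRestrLib.isIso_of_isIso_restrictD_of_support U _
      (fun i => (DCohRestrLib.support_HD_extZeroD U _ i).trans (by rintro _ ⟨w, -, rfl⟩; exact w.2))
      (support_Q hS)
  have hb : DerivedCategory.Q.map b = 0 := by
    rw [← cancel_epi (adj.counit.app E), comp_zero]
    apply (adj.homEquiv _ _).injective
    rw [h (adj.homEquiv _ _ _)]
    exact (h _).symm
  exact ⟨HomotopyCategory.homotopyOfEq _ 0 ((KInjUse.quotient_eq_zero_of_Q hb).trans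
    ((HomotopyCategory.quotient _ _).map_zero _ _).symm)⟩

/-- `I` is bounded on `U`. -/
def BddOn (I : Cx X) (a b : ℤ) : Prop :=
  ∃ J : Cx (U : Scheme.{u}), J.IsKInjective ∧ (∀ q, q < a ∨ b < q → IsZero (J.X q)) ∧
    Nonempty ((DCoh.restrictD U.ι).obj (DerivedCategory.Q.obj I) ≅ DerivedCategory.Q.obj J)

variable {U}

theorem BddOn.hom_eq_zero_of_isLE {I : Cx X} {a b : ℤ} (hI : BddOn U I a b)
    (Z : DCoh.D (U : Scheme.{u})) (n : ℤ) [Z.IsLE n] (hn : n < a)
    (φ : Z ⟶ (DCoh.restrictD U.ι).obj (DerivedCategory.Q.obj I)) : φ = 0 := by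
  obtain ⟨J, hJ, hv, ⟨e⟩⟩ := hI
  haveI : J.IsStrictlyGE a := (CochainComplex.isStrictlyGE_iff J a).2 fun q hq => hv q (Or.inl hq)
  haveI : (DerivedCategory.Q.obj J).IsGE a := inferInstance
  rw [← cancel_mono e.hom, zero_comp]
  exact DerivedCategory.TStructure.t.zero_of_isLE_of_isGE _ n a hn inferInstance inferInstance

theorem BddOn.hom_eq_zero_of_isGE {I : Cx X} {a b : ℤ} (hI : BddOn U I a b)
    (Z : DCoh.D (U : Scheme.{u})) (n : ℤ) [Z.IsGE n] (hn : b < n)
    (φ : Z ⟶ (DCoh.restrictD U.ι).obj (DerivedCategory.Q.obj I)) : φ = 0 := by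
  obtain ⟨J, hJ, hv, ⟨e⟩⟩ := hI
  haveI := hJ
  obtain ⟨Z', hZ', ⟨eZ⟩⟩ := DerivedCategory.exists_iso_Q_obj_of_isGE Z n
  haveI := hZ'
  obtain ⟨ψ, hψ⟩ := KInjUse.Q_map_surjective Z' J (eZ.inv ≫ φ ≫ e.hom)
  have h0 : ψ = 0 := HomologicalComplex.hom_ext _ _ fun q => by
    rcases lt_or_ge q n with hq | hq
    · exact (Z'.isZero_of_isStrictlyGE n q hq).eq_of_src _ _
    · exact (hv q (Or.inr (by omega))).eq_of_tgt _ _
  rw [h0, Functor.map_zero] at hψ
  rw [← cancel_epi eZ.inv, ← cancel_mono e.hom, comp_zero, zero_comp, Category.assoc, ← hψ]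

theorem isZero_stalk_sf_tensor {V : X.Opens} {C : Cx X} {y : X} (hy : y ∉ V) (i n : ℤ) :
    IsZero (((KFlatLib.stalkCx X y).obj ((Gen.tR (Tb X) C).obj (sf V i))).homology n) :=
  (acyclic_stalk_sf_tensor hy i _ n).of_iso
    ((HomologicalComplex.homologyFunctor _ _ n).mapIso (KFlatLib.stalkTensorCxIso y (sf V i) C)).symm

theorem qisOn_πTruncGE {C : Cx X} {n : ℤ}
    (hC : ∀ y ∈ U, ∀ q : ℤ, q < n → IsZero (((KFlatLib.stalkCx X y).obj C).homology q)) :
    QisOn U (C.πTruncGE n) := fun y hy => by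
  refine ⟨fun q => (quasiIsoAt_iff_isIso_homologyMap _ _).2 ?_⟩
  let f := C.πTruncGE n
  by_cases hq : n ≤ q
  · have := CochainComplex.quasiIsoAt_πTruncGE C n q hq
    have hi : IsIso (HomologicalComplex.homologyMap f q) :=
      (quasiIsoAt_iff_isIso_homologyMap _ _).1 this
    have e := ShortComplex.mapHomologyIso_hom_naturality
      ((HomologicalComplex.shortComplexFunctor _ (ComplexShape.up ℤ) q).map f)
      (DerSch.stalkFunctor X y)
    have : IsIso ((DerSch.stalkFunctor X y).map (HomologicalComplex.homologyMap f q)) :=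
      Functor.map_isIso _ _
    have h2 : IsIso (ShortComplex.homologyMap ((DerSch.stalkFunctor X y).mapShortComplex.map
        ((HomologicalComplex.shortComplexFunctor _ (ComplexShape.up ℤ) q).map f))) :=
      @IsIso.of_isIso_fac_right _ _ _ _ _ _ _ _ inferInstance
        (IsIso.comp_isIso' inferInstance this) e
    exact h2
  · refine (hC y hy q (by omega)).isIso ?_ _
    refine IsZero.of_iso ?_ (KFlatLib.stalkHomologyIso _ y q)
    refine (DerSch.stalkFunctor X y).map_isZero ?_
    exact (exactAt_iff_isZero_homology _ _).1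
      (ExactAt.of_isZero ((C.truncGE n).isZero_of_isStrictlyGE n q (by omega)))

theorem isZero_sf_tensor_X' {V : X.Opens} {C : Cx X} {i N : ℤ} (hC : ∀ q, q < N → IsZero (C.X q))
    (n : ℤ) (hn : n < i + N) : IsZero (((Gen.tR (Tb X) C).obj (sf V i)).X n) := by
  rw [IsZero.iff_id_eq_zero]
  refine mapBifunctor.hom_ext fun p q h => ?_
  have h' : p + q = n := h
  by_cases hp : p = i
  · exact (((Tb X).obj _).map_isZero (hC q (by omega))).eq_of_src _ _
  · exact (((Tb X).flip.obj _).map_isZero (isZero_single_obj_X _ _ _ _ hp)).eq_of_src _ _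

variable {I : Cx X} [I.IsKInjective] {a b : ℤ}

theorem isZero_iG_low (hI : BddOn U I a b) {C : Cx X} {m : ℤ}
    (hC : ∀ y ∈ U, ∀ q : ℤ, m ≤ q → IsZero (((KFlatLib.stalkCx X y).obj C).homology q))
    {x : X} (hx : x ∈ U) (i : ℤ) (hi : i + (m - 1) < a) :
    IsZero (((KFlatLib.stalkCx X x).obj (iG C I)).homology i) := by
  refine isZero_stalk_homology hx i fun V hV c => ?_
  let T : Cx X := CochainComplex.truncLE C (m - 1)
  haveI : QuasiIso ((Gen.tL (Tb X) (sf V i)).map (CochainComplex.ιTruncLE C (m - 1))) :=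
    quasiIso_sf_tensor ((qisOn_ιTruncLE hC).mono hV) i
  haveI : CochainComplex.IsStrictlyLE ((Gen.tL (Tb X) (sf V i)).obj T) (i + (m - 1)) := by
    rw [CochainComplex.isStrictlyLE_iff]
    intro n hn
    exact isZero_sf_tensor_X (C := T) (fun q hq =>
      CochainComplex.isZero_of_isStrictlyLE T (m - 1) q hq) n hn
  haveI : IsIso (DerivedCategory.Q.map ((Gen.tL (Tb X) (sf V i)).map (CochainComplex.ιTruncLE C (m - 1)))) :=
    inferInstance
  haveI : (DerivedCategory.Q.obj ((Gen.tR (Tb X) C).obj (sf V i))).IsLE (i + (m - 1)) :=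
    DerivedCategory.TStructure.t.isLE_of_iso
      (asIso (DerivedCategory.Q.map ((Gen.tL (Tb X) (sf V i)).map (CochainComplex.ιTruncLE C (m - 1))))) _
  haveI := isLE_restrictD U (DerivedCategory.Q.obj ((Gen.tR (Tb X) C).obj (sf V i))) (i + (m - 1))
  exact null_of_local U (fun y hy n => isZero_stalk_sf_tensor (fun h => hy (hV h)) i n)
    (hI.hom_eq_zero_of_isLE _ (i + (m - 1)) hi) c

theorem isZero_iG_high (hI : BddOn U I a b) {C : Cx X} {n : ℤ}
    (hC : ∀ y ∈ U, ∀ q : ℤ, q < n → IsZero (((KFlatLib.stalkCx X y).obj C).homology q))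
    {x : X} (hx : x ∈ U) (i : ℤ) (hi : b < i + n) :
    IsZero (((KFlatLib.stalkCx X x).obj (iG C I)).homology i) := by
  refine isZero_stalk_homology hx i fun V hV c => ?_
  haveI : QuasiIso ((Gen.tL (Tb X) (sf V i)).map (C.πTruncGE n)) :=
    quasiIso_sf_tensor ((qisOn_πTruncGE hC).mono hV) i
  haveI : CochainComplex.IsStrictlyGE ((Gen.tL (Tb X) (sf V i)).obj (C.truncGE n)) (i + n) := by
    rw [CochainComplex.isStrictlyGE_iff]
    intro q hq
    exact isZero_sf_tensor_X' (C := C.truncGE n) (fun q hq =>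
      (C.truncGE n).isZero_of_isStrictlyGE n q hq) q hq
  haveI : IsIso (DerivedCategory.Q.map ((Gen.tL (Tb X) (sf V i)).map (C.πTruncGE n))) := inferInstance
  haveI : (DerivedCategory.Q.obj ((Gen.tR (Tb X) C).obj (sf V i))).IsGE (i + n) :=
    DerivedCategory.TStructure.t.isGE_of_iso
      (asIso (DerivedCategory.Q.map ((Gen.tL (Tb X) (sf V i)).map (C.πTruncGE n)))).symm _
  haveI := isGE_restrictD U (DerivedCategory.Q.obj ((Gen.tR (Tb X) C).obj (sf V i))) (i + n)
  exact null_of_local U (fun y hy n => isZero_stalk_sf_tensor (fun h => hy (hV h)) i n)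
    (hI.hom_eq_zero_of_isGE _ (i + n) hi) c

theorem isZero_gg_of_low (hI : BddOn U I a b) {C : Cx X} {n : ℤ}
    (hC : ∀ y ∈ U, ∀ q : ℤ, q < n → IsZero (((KFlatLib.stalkCx X y).obj C).homology q))
    {x : X} (hx : x ∈ U) (i : ℤ) (hi : i < a - b + n) :
    IsZero (((KFlatLib.stalkCx X x).obj (iG (iG C I) I)).homology i) :=
  isZero_iG_low hI (m := b - n + 1) (fun y hy q hq => isZero_iG_high hI hC hy q (by omega)) hx i (by omega)

theorem isZero_gg_of_high (hI : BddOn U I a b) {C : Cx X} {m : ℤ}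
    (hC : ∀ y ∈ U, ∀ q : ℤ, m ≤ q → IsZero (((KFlatLib.stalkCx X y).obj C).homology q))
    {x : X} (hx : x ∈ U) (i : ℤ) (hi : b - a + m - 1 < i) :
    IsZero (((KFlatLib.stalkCx X x).obj (iG (iG C I) I)).homology i) :=
  isZero_iG_high hI (n := a - m + 1) (fun y hy q hq => isZero_iG_low hI hC hy q (by omega)) hx i (by omega)

omit [I.IsKInjective] in
/-- The evaluation in degree `j` for the first term, when the middle term vanishes nearby. -/
theorem isIso_ev_shift {S : ShortComplex (Cx X)} (hS : KFlatLib.DegSplit S) {x : X} (i j : ℤ)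
    (hij : i + 1 = j)
    (h₂ : ∀ q, (q = i ∨ q = j) → IsZero (((KFlatLib.stalkCx X x).obj S.X₂).homology q))
    (h₂' : ∀ q, (q = i ∨ q = j) → IsZero (((KFlatLib.stalkCx X x).obj (iG (iG S.X₂ I) I)).homology q))
    (h₃ : IsIso (HomologicalComplex.homologyMap (evAt S.X₃ I x) i)) :
    IsIso (HomologicalComplex.homologyMap (evAt S.X₁ I x) j) := by
  obtain ⟨hGG⟩ := nonempty_degSplit_gg hS I
  have s₁ := shortExact_stalk (KFlatLib.shortExact_of_degSplit hS) x
  have s₂ := shortExact_stalk (KFlatLib.shortExact_of_degSplit hGG) x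
  let φ := (KFlatLib.stalkCx X x).mapShortComplex.map (evSeq S I)
  have e := HomologicalComplex.HomologySequence.δ_naturality φ s₁ s₂ i j hij
  haveI : IsIso (s₁.δ i j hij) := (s₁.δIso i j hij (h₂ i (Or.inl rfl)) (h₂ j (Or.inr rfl))).isIso_hom
  haveI : IsIso (s₂.δ i j hij) := (s₂.δIso i j hij (h₂' i (Or.inl rfl)) (h₂' j (Or.inr rfl))).isIso_hom
  haveI : IsIso (HomologicalComplex.homologyMap φ.τ₃ i) := h₃
  haveI : IsIso (s₁.δ i j hij ≫ HomologicalComplex.homologyMap φ.τ₁ j) := by
    rw [e]; infer_instance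
  exact IsIso.of_isIso_comp_left (s₁.δ i j hij) (HomologicalComplex.homologyMap φ.τ₁ j)

end BidualSchLib
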