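import Groth.Agent.BidualSchLib.Unit
import Groth.Agent.PerfDualLib.CohPC
import Groth.Agent.DualCxLib.Sch

/-!
# Biduality on a locally Noetherian scheme
-/

set_option autoImplicit false
set_option linter.all false
set_option backward.isDefEq.respectTransparency false
set_option backward.isDefEq.respectTransparency.types false
set_option maxHeartbeats 1000000

universe u

open CategoryTheory CategoryTheory.Limits AlgebraicGeometry HomologicalComplex Pretriangulated
open Groth.Agent Groth.Agent.DerLib Groth.Agent.PerfDualLib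

attribute [local instance] HasDerivedCategory.standard

noncomputable section

namespace BidualSchLib

theorem isZero_cone_homology {C : Type*} [Category C] [Abelian C] [HasDerivedCategory C]
    {P Q : CochainComplex C ℤ} (f : P ⟶ Q) (j : ℤ) (h₀ : IsIso (homologyMap f j))
    (h₁ : Mono (homologyMap f (j + 1))) : IsZero ((CochainComplex.mappingCone f).homology j) := by
  let F := fun l => DerivedCategory.homologyFunctor C l
  obtain ⟨δ, hT⟩ : ∃ δ, Triangle.mk (DerivedCategory.Q.map f) (DerivedCategory.Q.map (CochainComplex.mappingCone.inr f)) δ ∈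
      distinguishedTriangles :=
    ⟨_, DerivedCategory.mappingCone_triangle_distinguished f⟩
  have e₀ : IsIso ((F j).map (DerivedCategory.Q.map f)) :=
    (NatIso.isIso_map_iff (DerivedCategory.homologyFunctorFactors C j) f).2 h₀
  have e₁ : Mono ((F (j + 1)).map (DerivedCategory.Q.map f)) := by
    haveI : Mono ((homologyFunctor C (ComplexShape.up ℤ) (j + 1)).map f) := h₁
    exact ((MorphismProperty.monomorphisms C).arrow_mk_iso_iff
      (Arrow.isoMk ((DerivedCategory.homologyFunctorFactors C (j + 1)).app P)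
        ((DerivedCategory.homologyFunctorFactors C (j + 1)).app Q)
        ((DerivedCategory.homologyFunctorFactors C (j + 1)).hom.naturality f).symm)).2 this
  refine IsZero.of_iso ?_ ((DerivedCategory.homologyFunctorFactors C j).app _).symm
  refine (DerivedCategory.HomologySequence.exact₃ _ hT j (j + 1) rfl).isZero_of_both_zeros ?_ ?_
  · haveI := e₀
    exact (cancel_epi ((F j).map (DerivedCategory.Q.map f))).1
      ((((F j).map_comp _ _).symm.trans
        ((congrArg ((F j).map ·) (comp_distTriang_mor_zero₁₂ _ hT)).trans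
          (Functor.map_zero _ _ _))).trans comp_zero.symm)
  · haveI := e₁
    exact (cancel_mono ((F (j + 1)).map (DerivedCategory.Q.map f))).1
      ((DerivedCategory.HomologySequence.δ_comp _ hT j (j + 1) rfl).trans zero_comp.symm)

variable {X : Scheme.{u}}

theorem isCoh_restrictFunctor {Y : Scheme.{u}} (g : Y ⟶ X) [IsOpenImmersion g] {M : X.Modules}
    (h : Coh.IsCoh M) : Coh.IsCoh ((Scheme.Modules.restrictFunctor g).obj M) :=
  haveI := h.1
  QCohLib.isCoh_of_iso ((Scheme.Modules.restrictFunctorIsoPullback g).app M).symm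
    ⟨KFlatLib.isQCoh_pullback g M, ConsLib.isFT_pullback g M h.2⟩

theorem BddOn.mono {U V : X.Opens} (hVU : V ≤ U) {I : Cx X} {a b : ℤ} (h : BddOn U I a b) :
    BddOn V I a b := by
  obtain ⟨J, hJ, hv, ⟨e⟩⟩ := h
  haveI := hJ
  let g := X.homOfLE hVU
  obtain ⟨c₁⟩ := PerfLib.nonempty_resD_comp g U.ι (DerivedCategory.Q.obj I)
  obtain ⟨c₂⟩ := PerfLib.nonempty_resD_congr (X.homOfLE_ι hVU) (DerivedCategory.Q.obj I)
  exact ⟨(rJ g).obj J, isKInjective_rJ g J,
    fun q hq => (Scheme.Modules.restrictFunctor g).map_isZero (hv q hq),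
    ⟨c₂.symm ≪≫ c₁ ≪≫ (PerfLib.resD g).mapIso e ≪≫ PerfLib.resDQIso g J⟩⟩

theorem isZero_stalk_of_isZero {C : Cx X} {n : ℤ} (h : IsZero (C.homology n)) (y : X) :
    IsZero (((KFlatLib.stalkCx X y).obj C).homology n) :=
  (KFlatLib.isZero_homology_iff C n).1 h y

variable {I : Cx X} [I.IsKInjective] {U : X.Opens} {a b : ℤ}

theorem isIso_ev_above [IsLocallyNoetherian X] (hu : ∀ V : X.Opens, Refl V I (unitCx X))
    (hI : BddOn U I a b) {C : Cx X} (hC : ∀ n, Coh.IsCoh (C.homology n)) (N : ℤ)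
    (hN : ∀ n, N < n → IsZero (C.homology n)) {x : X} (hx : x ∈ U) (i : ℤ) :
    IsIso (homologyMap (evAt C I x) i) := by
  haveI : (DerivedCategory.Q.obj C).IsLE N := (DerivedCategory.isLE_iff _ N).2 fun n hn =>
    (hN n hn).of_iso ((DerivedCategory.homologyFunctorFactors _ n).app C)
  let m : ℤ := min (i - 1) (a - b + i - 1)
  have hpc : DCoh.IsPseudoCoherentD m (DerivedCategory.Q.obj C) :=
    PerfDualLib.isPC_of_isCohD _ N m fun n =>
      QCohLib.isCoh_of_iso ((DerivedCategory.homologyFunctorFactors _ n).app C).symm (hC n)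
  obtain ⟨U', hx', E, a', b', α, hv, hf, hα⟩ := exists_free_approx hpc x
  haveI := PerfCompLib.preservesFiniteLimits_extZero U'
  obtain ⟨Z, s, hs, g, hg⟩ := DerivedCategory.right_fac α
  haveI : QuasiIso s := (DerivedCategory.isIso_Q_map_iff_quasiIso _ s).1 hs
  have hL := loc_refl (U := U') (hu U')
  have hZ : Refl U' I ((jC U').obj Z) :=
    (hL.qis ((jC U').map s) (QisOn.of_quasiIso U' _)).2 (hL.prop_bounded E a' b' hv hf)
  let t : (jC U').obj Z ⟶ C := ((cadj U').homEquiv Z C).symm g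
  have ht : (cadj U').unit.app Z ≫ (rC U').map t = g :=
    ((cadj U').homEquiv_unit _ _ _).symm.trans (Equiv.apply_symm_apply _ g)
  have hiae : PerfLib.IAE (DerivedCategory.Q.map ((rC U').map t)) m := by
    haveI := isIso_cadj_unit U' Z
    have h1 : DerivedCategory.Q.map ((rC U').map t) =
        inv (DerivedCategory.Q.map ((cadj U').unit.app Z)) ≫ DerivedCategory.Q.map s ≫ α := by
      rw [IsIso.eq_inv_comp, ← Functor.map_comp, ht, hg, IsIso.hom_inv_id_assoc]
    rw [h1]
    exact (PerfLib.IAE.of_isIso _ m).comp ((PerfLib.IAE.of_isIso _ m).comp hα)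
  let V : X.Opens := U ⊓ U'
  have hM : ∀ y ∈ V, ∀ n : ℤ, m ≤ n →
      IsZero (((KFlatLib.stalkCx X y).obj (CochainComplex.mappingCone t)).homology n) :=
    fun y hy n hn => (isZero_rC_homology U' _ n).1 ((isZero_HD_cone _ hiae n hn).of_iso
      ((HomologicalComplex.homologyFunctor _ _ n).mapIso
        (CochainComplex.mappingCone.mapHomologicalComplexIso t (Scheme.Modules.restrictFunctor U'.ι)))) y hy.2
  let S := CochainComplex.mappingCone.triangleRotateShortComplex t
  let hS : KFlatLib.DegSplit S := CochainComplex.mappingCone.triangleRotateShortComplexSplitting t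
  have hZ1 : Refl U' I S.X₃ :=
    hL.ext₃ (S := CochainComplex.mappingCone.triangleRotateShortComplex (𝟙 ((jC U').obj Z)))
      (CochainComplex.mappingCone.triangleRotateShortComplexSplitting (𝟙 ((jC U').obj Z)))
      hZ (hL.contractible (KFlatLib.coneIdContractible _))
  haveI := hZ1 x hx'
  refine isIso_ev_shift hS (i - 1) i (by omega) (fun q hq => hM x ⟨hx, hx'⟩ q (by omega))
    (fun q hq => ?_) inferInstance
  exact isZero_gg_of_high (hI.mono inf_le_left) hM ⟨hx, hx'⟩ q (by omega)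

theorem isIso_ev [IsLocallyNoetherian X] (hu : ∀ V : X.Opens, Refl V I (unitCx X))
    (hI : BddOn U I a b) {L : Cx X} (hL : ∀ n, Coh.IsCoh (L.homology n)) {x : X} (hx : x ∈ U) (i : ℤ) :
    IsIso (homologyMap (evAt L I x) i) := by
  let m : ℤ := max i (i + b - a)
  let f := L.ιTruncLE m
  let S := CochainComplex.mappingCone.triangleRotateShortComplex f
  let hS : KFlatLib.DegSplit S := CochainComplex.mappingCone.triangleRotateShortComplexSplitting f
  have hz : ∀ q, m < q → IsZero ((L.truncLE m).homology q) := fun q hq =>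
    (exactAt_iff_isZero_homology _ _).1 (ExactAt.of_isZero ((L.truncLE m).isZero_of_isStrictlyLE m q hq))
  have hcone : ∀ y : X, ∀ q, q < m + 1 → IsZero (((KFlatLib.stalkCx X y).obj S.X₂).homology q) := by
    refine fun y q hq => isZero_stalk_of_isZero ?_ y
    refine isZero_cone_homology f q ?_ ?_
    · haveI := CochainComplex.quasiIsoAt_ιTruncLE L m q (by omega)
      exact inferInstanceAs (IsIso (homologyMap (L.ιTruncLE m) q))
    · by_cases hq1 : q + 1 ≤ m
      · haveI := CochainComplex.quasiIsoAt_ιTruncLE L m (q + 1) hq1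
        exact inferInstanceAs (Mono (homologyMap (L.ιTruncLE m) (q + 1)))
      · exact ⟨fun u v _ => (hz (q + 1) (by omega)).eq_of_tgt _ _⟩
  have hcoh : ∀ n, Coh.IsCoh (((L.truncLE m)⟦(1 : ℤ)⟧).homology n) := fun n => by
    refine QCohLib.isCoh_of_iso (((homologyFunctor X.Modules (ComplexShape.up ℤ) 0).shiftIso 1 n (1 + n) rfl).app
      (L.truncLE m)).symm ?_
    show Coh.IsCoh ((L.truncLE m).homology (1 + n))
    by_cases h : 1 + n ≤ m
    · haveI := CochainComplex.quasiIsoAt_ιTruncLE L m (1 + n) h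
      exact QCohLib.isCoh_of_iso (asIso (homologyMap (L.ιTruncLE m) (1 + n))).symm (hL (1 + n))
    · exact DevissLib.isCoh_of_isZero (hz _ (by omega))
  refine isIso_ev_shift hS (i - 1) i (by omega) (fun q hq => hcone x q (by omega)) (fun q hq => ?_) ?_
  · exact isZero_gg_of_low hI (fun y _ q hq => hcone y q hq) hx q (by omega)
  · refine isIso_ev_above hu hI hcoh (m - 1) (fun n hn => ?_) hx (i - 1)
    exact (hz (1 + n) (by omega)).of_iso
      (((homologyFunctor X.Modules (ComplexShape.up ℤ) 0).shiftIso 1 n (1 + n) rfl).app (L.truncLE m))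

section Dualizing

variable [IsLocallyNoetherian X]
  [∀ (U : Scheme.{u}) (j : U ⟶ X) [IsOpenImmersion j], PreservesFiniteLimits (Scheme.Modules.restrictFunctor j)]
  [∀ (R : CommRingCat.{u}), PreservesFiniteLimits (tilde.functor R)]
  {K : DCoh.D X} (hK : Dual2.IsDualizingSch X K) (eIK : DerivedCategory.Q.obj I ≅ K)

include hK eIK

theorem isCoh_of_charts (M : X.Modules)
    (h : ∀ (A : Type u) [CommRing A] [IsNoetherianRing A] (j : Spec (CommRingCat.of A) ⟶ X) [IsOpenImmersion j]
      (ω : Dual.D A), Dual.IsDualizing A ω →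
      Nonempty ((DCoh.restrictD j).obj (DerivedCategory.Q.obj I) ≅ (DCoh.tildeD (CommRingCat.of A)).obj ω) →
        Coh.IsCoh ((Scheme.Modules.restrictFunctor j).obj M)) : Coh.IsCoh M := by
  choose A iA hA j hj p hp using fun x : X => DualCxLib.chart_of_point x
  refine PerfLib.isCoh_of_cover M (fun x : X => @Scheme.Hom.opensRange _ _ (j x) (hj x))
    (eq_top_iff.2 fun x _ => TopologicalSpace.Opens.mem_iSup.2 ⟨x, p x, hp x⟩) fun x => ?_
  letI := iA x
  haveI := hA x
  haveI := hj x
  obtain ⟨ω, hω, ⟨e⟩⟩ := hK (A x) (j x)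
  have := h (A x) (j x) ω hω ⟨(DCoh.restrictD (j x)).mapIso eIK ≪≫ e⟩
  let g := (Scheme.Hom.isoOpensRange (j x)).inv
  exact QCohLib.isCoh_of_iso ((Scheme.Modules.restrictFunctorCongr
      (Scheme.Hom.isoOpensRange_inv_comp (j x))).symm ≪≫ Scheme.Modules.restrictFunctorComp g (j x) |>.app M).symm
    (isCoh_restrictFunctor g this)

theorem isCoh_homology_dualizing (n : ℤ) : Coh.IsCoh (I.homology n) := by
  refine isCoh_of_charts hK eIK _ fun A _ _ j _ ω hω ⟨e⟩ => ?_
  haveI := hω.finite_cohomology n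
  exact QCohLib.isCoh_of_iso ((TildeDerLib.tildeHIso (CommRingCat.of A) n ω).symm ≪≫
      (DerivedCategory.homologyFunctor _ n).mapIso e.symm ≪≫ DCohRestrLib.restrictHDIso j _ n ≪≫
      (Scheme.Modules.restrictFunctor j).mapIso ((DerivedCategory.homologyFunctorFactors _ n).app I))
    (AlgzCohLib.isCoh_tilde (A := A) (ModuleCat.of A (Dual.HD A ω n)))

theorem isCoh_homology_iG_dualizing {L : Cx X} (hL : ∀ n, Coh.IsCoh (L.homology n)) (n : ℤ) :
    Coh.IsCoh ((iG L I).homology n) :=
  isCoh_of_charts hK eIK _ fun A _ _ j _ ω hω ⟨e⟩ => isCoh_restrict_iG j I hω e L hL n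

theorem quasiIso_ev {L : Cx X} (hL : ∀ n, Coh.IsCoh (L.homology n)) : QuasiIso (ev L I) := by
  have hcoh := isCoh_homology_dualizing hK eIK
  have hu : ∀ V : X.Opens, Refl V I (unitCx X) := fun V y _ => by
    obtain ⟨A, _, _, j, _, p, rfl⟩ := DualCxLib.chart_of_point y
    obtain ⟨ω, hω, ⟨e⟩⟩ := hK A j
    exact quasiIso_ev_unit j I hω ((DCoh.restrictD j).mapIso eIK ≪≫ e) hcoh p
  refine (KFlatLib.quasiIso_iff_stalks _).2 fun x => ⟨fun i => (quasiIsoAt_iff_isIso_homologyMap _ _).2 ?_⟩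
  obtain ⟨A, _, _, j, _, p, rfl⟩ := DualCxLib.chart_of_point x
  obtain ⟨ω, hω, ⟨e⟩⟩ := hK A j
  obtain ⟨a, b, hI⟩ := exists_bddOn j I hω ((DCoh.restrictD j).mapIso eIK ≪≫ e)
  exact isIso_ev hu hI hL ⟨p, rfl⟩ i

omit eIK in
theorem main (L : Cx X) (hL : ∀ i : ℤ, Coh.IsCoh (DCoh.HD (DCoh.toD X L) i)) [DCoh.HasLTensorCx L]
    [DCoh.HasRSheafHom L] :
    (∀ i : ℤ, Coh.IsCoh (DCoh.HD ((DCoh.RSheafHom L).obj K) i)) ∧
      ∀ (M : Cx X) [DCoh.HasLTensorCx M] [DCoh.HasRSheafHom M],
        Nonempty (DCoh.toD X M ≅ (DCoh.RSheafHom L).obj K) →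
          Nonempty ((DCoh.RSheafHom M).obj K ≅ DCoh.toD X L) := by
  obtain ⟨J, hJ, ⟨e⟩⟩ := KInjUse.exists_iso_Q_kInjective K
  haveI := hJ
  obtain ⟨r⟩ := nonempty_rSheafHom_iso L J e.symm
  have hL' : ∀ n, Coh.IsCoh (L.homology n) := fun n =>
    QCohLib.isCoh_of_iso ((DerivedCategory.homologyFunctorFactors _ n).app L) (hL n)
  refine ⟨fun i => QCohLib.isCoh_of_iso
    ((DerivedCategory.homologyFunctor _ i).mapIso r ≪≫
      (DerivedCategory.homologyFunctorFactors _ i).app _).symm
    (isCoh_homology_iG_dualizing hK e.symm hL' i), fun M _ _ ⟨eM⟩ => ?_⟩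
  obtain ⟨r'⟩ := nonempty_rSheafHom_iso M J e.symm
  obtain ⟨c⟩ := nonempty_iG_congr (eM ≪≫ r) J
  haveI := quasiIso_ev hK e.symm hL'
  haveI : IsIso (DerivedCategory.Q.map (ev L J)) := inferInstance
  exact ⟨r' ≪≫ c ≪≫ (asIso (DerivedCategory.Q.map (ev L J))).symm⟩

end Dualizing

end BidualSchLib
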