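import Groth.Agent.BidualSchLib.Local

/-!
# Internal hom complexes and open immersions
-/

set_option autoImplicit false
set_option linter.all false
set_option backward.isDefEq.respectTransparency false
set_option backward.isDefEq.respectTransparency.types false
set_option maxHeartbeats 1000000

universe u

open CategoryTheory CategoryTheory.Limits AlgebraicGeometry HomologicalComplex
open Groth.Agent Groth.Agent.DerLib Groth.Agent.PerfDualLib

attribute [local instance] HasDerivedCategory.standard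

noncomputable section

namespace BidualSchLib

section Mate

variable {C C' : Type*} [Category C] [Category C'] {J : C' ⥤ C} {R : C ⥤ C'} (adj : J ⊣ R)
  {L G : C ⥤ C} (aL : L ⊣ G) {L' G' : C' ⥤ C'} (aL' : L' ⊣ G') (ω : L ⋙ R ≅ R ⋙ L')

include adj aL aL' ω in
theorem nonempty_commute (hη : ∀ F, IsIso (adj.unit.app F))
    (hiso : ∀ (F : C') (f : J.obj (L'.obj F) ⟶ L.obj (J.obj F)) [IsIso (R.map f)], IsIso f) (I : C) :
    Nonempty (R.obj (G.obj I) ≅ G'.obj (R.obj I)) := by
  let θ : L' ⋙ J ⟶ J ⋙ L :=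
    { app := fun F => J.map (L'.map (adj.unit.app F) ≫ ω.inv.app (J.obj F)) ≫
        adj.counit.app (L.obj (J.obj F))
      naturality := fun F G f => by
        have h1 : f ≫ adj.unit.app G = adj.unit.app F ≫ R.map (J.map f) :=
          adj.unit.naturality f
        have h2 : L'.map (R.map (J.map f)) ≫ ω.inv.app (J.obj G) =
            ω.inv.app (J.obj F) ≫ R.map (L.map (J.map f)) := ω.inv.naturality (J.map f)
        have h3 : J.map (R.map (L.map (J.map f))) ≫ adj.counit.app (L.obj (J.obj G)) =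
            adj.counit.app (L.obj (J.obj F)) ≫ L.map (J.map f) :=
          adj.counit.naturality (L.map (J.map f))
        change J.map (L'.map f) ≫ J.map _ ≫ _ = (J.map _ ≫ _) ≫ L.map (J.map f)
        rw [Category.assoc, ← h3, ← Functor.map_comp_assoc, ← Functor.map_comp_assoc]
        refine congrArg (fun m => m ≫ adj.counit.app (L.obj (J.obj G))) ?_ |>.trans (Category.assoc _ _ _)
        rw [← Functor.map_comp]
        refine congrArg J.map ?_
        calc L'.map (f ≫ adj.unit.app G) ≫ ω.inv.app (J.obj G)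
            = L'.map (adj.unit.app F ≫ R.map (J.map f)) ≫ ω.inv.app (J.obj G) := by rw [h1]
          _ = L'.map (adj.unit.app F) ≫ L'.map (R.map (J.map f)) ≫ ω.inv.app (J.obj G) := by
              rw [Functor.map_comp, Category.assoc]
          _ = L'.map (adj.unit.app F) ≫ ω.inv.app (J.obj F) ≫ R.map (L.map (J.map f)) := by rw [h2]
          _ = _ := (Category.assoc _ _ _).symm }
  haveI : ∀ F, IsIso (θ.app F) := fun F => by
    haveI := hη F
    haveI := hη (L'.obj F)
    haveI : IsIso (R.map (θ.app F)) := by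
      have hh : adj.unit.app (L'.obj F) ≫ R.map (θ.app F) =
          L'.map (adj.unit.app F) ≫ ω.inv.app (J.obj F) := by
        refine Eq.trans (adj.homEquiv_unit _ _ _).symm ?_
        exact (adj.homEquiv _ _).apply_eq_iff_eq_symm_apply.2 (adj.homEquiv_counit _ _ _).symm
      exact @IsIso.of_isIso_comp_left _ _ _ _ _ (adj.unit.app (L'.obj F)) _ inferInstance
        (by rw [hh]; infer_instance)
    exact hiso F (θ.app F)
  haveI := NatIso.isIso_of_isIso_app θ
  let a₁ : J ⋙ L ⊣ G ⋙ R := adj.comp aL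
  let a₂ : L' ⋙ J ⊣ R ⋙ G' := aL'.comp adj
  exact ⟨((a₁.ofNatIsoLeft (asIso θ).symm).rightAdjointUniq a₂).app I⟩

end Mate

variable {X Y : Scheme.{u}} (j : Y ⟶ X) [IsOpenImmersion j]

/-- Restriction of complexes. -/
abbrev rJ : Cx X ⥤ Cx Y :=
  (Scheme.Modules.restrictFunctor j).mapHomologicalComplex (ComplexShape.up ℤ)

/-- Extension by zero of complexes. -/
abbrev eJ : Cx Y ⥤ Cx X := (CxOX.extZero j).mapHomologicalComplex (ComplexShape.up ℤ)

/-- The adjunction on complexes. -/
abbrev adjJ : eJ j ⊣ rJ j :=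
  KInjDerived.mapHomologicalComplexAdj (CxOX.extZeroAdj j) (ComplexShape.up ℤ)

theorem isIso_extZeroAdj_unit : IsIso (CxOX.extZeroAdj j).unit := by
  let t : Adjunction.Triple (CxOX.extZero j) (Scheme.Modules.restrictFunctor j)
      (Scheme.Modules.pushforward j) :=
    ⟨CxOX.extZeroAdj j, Scheme.Modules.restrictAdjunction j⟩
  exact t.isIso_unit_iff_isIso_counit.2 inferInstance

theorem subsingleton_stalk_extZero {x : X} (hx : x ∉ Set.range j) (H : Y.Modules) :
    Subsingleton (((CxOX.extZero j).obj H).presheaf.stalk x) := by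
  let U := j.opensRange
  let e := j.isoOpensRange.hom
  let η : Scheme.Modules.restrictFunctor U.ι ⋙ Scheme.Modules.restrictFunctor e ≅
      Scheme.Modules.restrictFunctor j :=
    (Scheme.Modules.restrictFunctorComp e U.ι).symm ≪≫
      Scheme.Modules.restrictFunctorCongr j.isoOpensRange_hom_ι
  let adj' := ((CxOX.extZeroAdj e).comp (CxOX.extZeroAdj U.ι)).ofNatIsoRight η
  have i := (Adjunction.leftAdjointUniq (CxOX.extZeroAdj j) adj').app H
  exact (DCohRestrLib.subsingleton_stalk_of_iso i x).2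
    (DCohRestrLib.subsingleton_stalk_extZero (U := U) (fun h => hx h) _)

theorem isZero_stalkCx_eJ_X {x : X} (hx : x ∉ Set.range j) (Z : Cx Y) (q : ℤ) :
    IsZero (((KFlatLib.stalkCx X x).obj ((eJ j).obj Z)).X q) := by
  haveI : Subsingleton ((DerSch.stalkFunctor X x).obj ((CxOX.extZero j).obj (Z.X q))) :=
    subsingleton_stalk_extZero j hx (Z.X q)
  show IsZero ((DerSch.stalkFunctor X x).obj ((CxOX.extZero j).obj (Z.X q)))
  exact ModuleCat.isZero_of_subsingleton _

theorem isIso_adjJ_unit (Z : Cx Y) : IsIso ((adjJ j).unit.app Z) := by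
  haveI := isIso_extZeroAdj_unit j
  haveI : ∀ i, IsIso (((adjJ j).unit.app Z).f i) := fun i =>
    inferInstanceAs (IsIso ((CxOX.extZeroAdj j).unit.app (Z.X i)))
  exact HomologicalComplex.Hom.isIso_of_components _

theorem isIso_of_rJ {P Q : Cx X} (f : P ⟶ Q) [IsIso ((rJ j).map f)]
    (hP : ∀ x, x ∉ Set.range j → ∀ q, IsZero (((KFlatLib.stalkCx X x).obj P).X q))
    (hQ : ∀ x, x ∉ Set.range j → ∀ q, IsZero (((KFlatLib.stalkCx X x).obj Q).X q)) : IsIso f := by
  haveI : ∀ q, IsIso (f.f q) := fun q => by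
    haveI : IsIso ((Scheme.Modules.restrictFunctor j).map (f.f q)) :=
      inferInstanceAs (IsIso ((HomologicalComplex.eval _ _ q).map ((rJ j).map f)))
    refine FiltSectLib.isIso_of_stalks _ fun x => ?_
    by_cases hx : x ∈ Set.range j
    · obtain ⟨w, rfl⟩ := hx
      exact DCohRestrLib.isIso_stalk_of_restrict j (f.f q) w
    · exact (hP x hx q).isIso (hQ x hx q) _
  exact HomologicalComplex.Hom.isIso_of_components _

theorem acyclic_eJ {P : Cx Y} (hP : P.Acyclic) : ((eJ j).obj P).Acyclic := fun n => by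
  rw [exactAt_iff_isZero_homology, DCohRestrLib.isZero_iff_subsingleton_stalks]
  intro x
  by_cases hx : x ∈ Set.range j
  · obtain ⟨w, rfl⟩ := hx
    refine (DCohRestrLib.subsingleton_stalk_restrict j _ w).1 ?_
    refine (DCohRestrLib.isZero_iff_subsingleton_stalks _).1 ?_ w
    haveI := isIso_adjJ_unit j P
    exact (((exactAt_iff_isZero_homology _ _).1 (hP n)).of_iso
      ((HomologicalComplex.homologyFunctor _ _ n).mapIso (asIso ((adjJ j).unit.app P))).symm).of_iso
        ((((eJ j).obj P).sc n).mapHomologyIso (Scheme.Modules.restrictFunctor j)).symm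
  · exact ModuleCat.subsingleton_of_isZero ((((exactAt_iff_isZero_homology _ _).1
      (ExactAt.of_isZero (isZero_stalkCx_eJ_X j hx P n)))).of_iso
        (KFlatLib.stalkHomologyIso ((eJ j).obj P) x n).symm)

theorem isKInjective_rJ (I : Cx X) [I.IsKInjective] : CochainComplex.IsKInjective ((rJ j).obj I) :=
  ⟨fun {P} f hP => by
    haveI := isIso_adjJ_unit j P
    obtain ⟨h⟩ := CochainComplex.IsKInjective.nonempty_homotopy_zero
      (((adjJ j).homEquiv P I).symm f) (acyclic_eJ j hP)
    have e : f = (adjJ j).unit.app P ≫ (rJ j).map (((adjJ j).homEquiv P I).symm f) :=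
      ((Equiv.apply_symm_apply _ f).symm.trans ((adjJ j).homEquiv_unit _ _ _))
    exact ⟨(Homotopy.ofEq e).trans (compNull (((Scheme.Modules.restrictFunctor j).mapHomotopy h).trans
      (Homotopy.ofEq ((rJ j).map_zero _ _))) _)⟩⟩

/-- Restriction commutes with `- ⊗ K`. -/
def rJTensIso (K : Cx X) : Gen.tR (Tb X) K ⋙ rJ j ≅ rJ j ⋙ Gen.tR (Tb Y) ((rJ j).obj K) :=
  have : PreservesColimitsOfSize.{0, 0} (Scheme.Modules.pullback j) :=
    (Scheme.Modules.pullbackPushforwardAdjunction j).leftAdjoint_preservesColimits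
  DCohRestrLib.totalNatIsoOfIso (DCoh.tensorBi (X := X)) (DCoh.tensorBi (X := Y))
    (Scheme.Modules.pullback j)
    (fun M N => (asIso (KFlatLib.pullθ j M N)).symm)
    (fun a N => (Iso.comp_inv_eq (asIso (KFlatLib.pullθ j _ N))).mpr
      (((congrArg (_ ≫ ·) (KFlatLib.pullθ_natural_left j a N)).trans
        (Iso.inv_hom_id_assoc (asIso (KFlatLib.pullθ j _ N)) _)).symm.trans (Category.assoc _ _ _).symm))
    (fun M {_ _} b => (Iso.comp_inv_eq (asIso (KFlatLib.pullθ j M _))).mpr
      (((congrArg (_ ≫ ·) (KFlatLib.pullθ_natural_right j M b)).trans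
        (Iso.inv_hom_id_assoc (asIso (KFlatLib.pullθ j M _)) _)).symm.trans (Category.assoc _ _ _).symm))
    (Scheme.Modules.restrictFunctorIsoPullback j) K

theorem isZero_stalkCx_tR_X {x : X} {Z : Cx X} (hZ : ∀ q, IsZero (((KFlatLib.stalkCx X x).obj Z).X q))
    (K : Cx X) (q : ℤ) : IsZero (((KFlatLib.stalkCx X x).obj ((Gen.tR (Tb X) K).obj Z)).X q) := by
  refine IsZero.of_iso ?_ ((HomologicalComplex.eval _ _ q).mapIso (KFlatLib.stalkTensorCxIso x Z K)).symm
  rw [IsZero.iff_id_eq_zero]
  refine mapBifunctor.hom_ext fun p r h => IsZero.eq_of_src ?_ _ _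
  exact ((MonoidalCategory.curriedTensor (ModuleCat.{u} (X.presheaf.stalk x))).flip.obj _).map_isZero (hZ p)

/-- Internal hom complexes commute with restriction to opens. -/
theorem nonempty_rJ_iG (K I : Cx X) :
    Nonempty ((rJ j).obj (iG K I) ≅ iG ((rJ j).obj K) ((rJ j).obj I)) := by
  exact nonempty_commute (adjJ j) (Gen.gAdj (Tb X) K) (Gen.gAdj (Tb Y) ((rJ j).obj K)) (rJTensIso j K)
    (isIso_adjJ_unit j)
    (fun F f hf => isIso_of_rJ j f (fun x hx q => isZero_stalkCx_eJ_X j hx _ q)
      (fun x hx q => isZero_stalkCx_tR_X (isZero_stalkCx_eJ_X j hx F) K q)) I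

/-- Internal hom complexes only depend on the second variable up to isomorphism in `D`. -/
theorem nonempty_iG_congr_right {Z : Scheme.{u}} (C : Cx Z) {I I' : Cx Z} [I.IsKInjective] [I'.IsKInjective]
    (e : DerivedCategory.Q.obj I ≅ DerivedCategory.Q.obj I') :
    Nonempty (DerivedCategory.Q.obj (iG C I) ≅ DerivedCategory.Q.obj (iG C I')) := by
  obtain ⟨φ, hφ⟩ := KInjUse.Q_map_surjective I I' e.hom
  obtain ⟨ψ, hψ⟩ := KInjUse.Q_map_surjective I' I e.inv
  have key : ∀ {A B : Cx Z} [B.IsKInjective] (f g : A ⟶ B), DerivedCategory.Q.map f = DerivedCategory.Q.map g →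
      DerivedCategory.Q.map ((Gen.G (Tb Z) C).map f) = DerivedCategory.Q.map ((Gen.G (Tb Z) C).map g) := by
    intro A B _ f g h
    haveI : (Gen.G (Tb Z) C).Additive :=
      haveI : (Gen.tR (Tb Z) C).Additive := KFlatLib.additive_bimap₁ (Tb Z) C
      (Gen.gAdj (Tb Z) C).right_adjoint_additive
    rw [← sub_eq_zero, ← Functor.map_sub, ← Functor.map_sub]
    have h0 : DerivedCategory.Q.map (f - g) = 0 := by rw [Functor.map_sub, h, sub_self]
    obtain ⟨H⟩ : Nonempty (Homotopy (f - g) 0) := ⟨HomotopyCategory.homotopyOfEq _ 0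
      ((KInjUse.quotient_eq_zero_of_Q h0).trans ((HomotopyCategory.quotient _ _).map_zero _ _).symm)⟩
    have ha : Gen.adjunct ((Gen.G (Tb Z) C).map (f - g)) =
        (Gen.gAdj (Tb Z) C).counit.app A ≫ (f - g) := by
      refine (Adjunction.homEquiv_counit _ _ _ _).trans ?_
      exact (Gen.gAdj (Tb Z) C).counit.naturality (f - g)
    obtain ⟨H'⟩ := Gen.nonempty_null_of_adjunct ((Gen.G (Tb Z) C).map (f - g))
      ((Homotopy.ofEq ha).trans (compNull H _))
    exact KInjUse.Q_map_zero_of_quotient ((HomotopyCategory.eq_of_homotopy _ 0 H').trans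
      ((HomotopyCategory.quotient _ _).map_zero _ _))
  refine ⟨⟨DerivedCategory.Q.map ((Gen.G (Tb Z) C).map φ), DerivedCategory.Q.map ((Gen.G (Tb Z) C).map ψ), ?_, ?_⟩⟩
  · rw [← Functor.map_comp, ← Functor.map_comp, key (φ ≫ ψ) (𝟙 _) (by simp [hφ, hψ]),
      CategoryTheory.Functor.map_id, CategoryTheory.Functor.map_id]
  · rw [← Functor.map_comp, ← Functor.map_comp, key (ψ ≫ φ) (𝟙 _) (by simp [hφ, hψ]),
      CategoryTheory.Functor.map_id, CategoryTheory.Functor.map_id]

end BidualSchLib
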