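import Groth.Agent.BidualSchLib.Chart
import Groth.Agent.BidualSchLib.Alg
import Groth.Agent.RefHullLib.BigOpen
import Groth.Agent.AVAmpleLib.Degree
import Groth.Agent.DepthLib.RegAB

/-!
# The structure sheaf is reflexive for a dualizing object
-/

set_option autoImplicit false
set_option linter.all false
set_option backward.isDefEq.respectTransparency false
set_option backward.isDefEq.respectTransparency.types false
set_option maxHeartbeats 1000000

universe u

open CategoryTheory CategoryTheory.Limits AlgebraicGeometry HomologicalComplex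
open Groth.Agent Groth.Agent.DerLib Groth.Agent.PerfDualLib DTen
open DTenLib.Point (hH sg)

attribute [local instance] HasDerivedCategory.standard

noncomputable section

namespace BidualSchLib

variable {X : Scheme.{u}}
  [∀ (U : Scheme.{u}) (j : U ⟶ X) [IsOpenImmersion j], PreservesFiniteLimits (Scheme.Modules.restrictFunctor j)]
  [∀ (R : CommRingCat.{u}), PreservesFiniteLimits (tilde.functor R)]
  {A : Type u} [CommRing A] [IsNoetherianRing A] (j : Spec (CommRingCat.of A) ⟶ X) [IsOpenImmersion j]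
  (I : Cx X) [I.IsKInjective] {ω : Dual.D A} (hω : Dual.IsDualizing A ω)
  (eI : (DCoh.restrictD j).obj (DerivedCategory.Q.obj I) ≅ (DCoh.tildeD (CommRingCat.of A)).obj ω)

theorem isZero_stalk_of_isZero_restrict {Y : Scheme.{u}} (g : Y ⟶ X) [IsOpenImmersion g] (C : Cx X) (n : ℤ)
    (h : IsZero ((Scheme.Modules.restrictFunctor g).obj (C.homology n))) (p : Y) :
    IsZero (((KFlatLib.stalkCx X (g p)).obj C).homology n) := by
  refine IsZero.of_iso ?_ (KFlatLib.stalkHomologyIso C (g p) n)
  haveI : Subsingleton ((DerSch.stalkFunctor X (g p)).obj (C.homology n)) :=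
    (DCohRestrLib.subsingleton_stalk_restrict g (C.homology n) p).1
      ((DCohRestrLib.isZero_iff_subsingleton_stalks _).1 h p)
  exact ModuleCat.isZero_of_subsingleton _

include hω eI in
theorem exists_value_self [HasLTen A] [HasLTen₃ A] [IsSymMonoidal A] [HasRHom A]
    (hcoh : ∀ n, Coh.IsCoh (I.homology n)) {C : Cx X} (eC : C ≅ I) :
    Nonempty ((DCoh.restrictD j).obj (DerivedCategory.Q.obj (iG C I)) ≅
      (DCoh.tildeD (CommRingCat.of A)).obj (sg (ModuleCat.of A A) 0)) := by
  obtain ⟨K, hK, ⟨eK⟩, ⟨v⟩⟩ := exists_value j I hω eI C fun n =>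
    QCohLib.isCoh_of_iso ((HomologicalComplex.homologyFunctor _ _ n).mapIso eC).symm (hcoh n)
  let T := DCoh.tildeD (CommRingCat.of A)
  haveI := TildeDerLib.isIso_unit (R := CommRingCat.of A)
  let ff := (TildeDerLib.adjD (CommRingCat.of A)).fullyFaithfulLOfIsIsoUnit
  let e : K ≅ ω := ff.preimageIso
    (eK.symm ≪≫ (DCoh.restrictD j).mapIso (DerivedCategory.Q.mapIso eC) ≪≫ eI)
  obtain ⟨u⟩ := DualCxLib.nonempty_RHom_self hω
  obtain ⟨s⟩ := DualCxLib.nonempty_unit_iso (A := A)
  exact ⟨v ≪≫ T.mapIso (((RHom A).flip.obj ω).mapIso e.symm.op ≪≫ u.symm ≪≫ s)⟩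

/-- The unit condition at a point of a chart. -/
theorem quasiIso_ev_unit (hω : Dual.IsDualizing A ω)
    (eI : (DCoh.restrictD j).obj (DerivedCategory.Q.obj I) ≅ (DCoh.tildeD (CommRingCat.of A)).obj ω)
    (hcoh : ∀ n, Coh.IsCoh (I.homology n)) (p : Spec (CommRingCat.of A)) :
    QuasiIso (evAt (unitCx X) I (j p)) := by
  obtain ⟨_, _, _, _⟩ := DualCxLib.exists_binders A
  let x := j p
  let G1 := iG (unitCx X) I
  let eG : G1 ≅ I := gUnitIso.app I
  let W := iG G1 I
  let T := DCoh.tildeD (CommRingCat.of A)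
  obtain ⟨v⟩ := exists_value_self j I hω eI hcoh eG
  let e0 : ∀ n : ℤ, (Scheme.Modules.restrictFunctor j).obj (W.homology n) ≅
      (tilde.functor (CommRingCat.of A)).obj ((hH A n).obj (sg (ModuleCat.of A A) 0)) := fun n =>
    ((DCohRestrLib.restrictHDIso j _ n) ≪≫ (Scheme.Modules.restrictFunctor j).mapIso
      ((DerivedCategory.homologyFunctorFactors _ n).app W)).symm ≪≫
      (DerivedCategory.homologyFunctor _ n).mapIso v ≪≫ TildeDerLib.tildeHIso (CommRingCat.of A) n _
  have hW : ∀ n, n ≠ 0 → IsZero (((KFlatLib.stalkCx X x).obj W).homology n) := fun n hn => by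
    refine isZero_stalk_of_isZero_restrict j W n (IsZero.of_iso ?_ (e0 n)) p
    refine (tilde.functor (CommRingCat.of A)).map_isZero ?_
    rcases lt_or_gt_of_ne hn with h | h
    · exact DerivedCategory.isZero_of_isGE (sg (ModuleCat.of A A) 0) 0 n h
    · exact DerivedCategory.isZero_of_isLE (sg (ModuleCat.of A A) 0) 0 n h
  obtain ⟨θ⟩ : Nonempty (((KFlatLib.stalkCx X x).obj W).homology 0 ≃ₗ[X.presheaf.stalk x] X.presheaf.stalk x) := by
    let eY : (Scheme.Modules.restrictFunctor j).obj (W.homology 0) ≅ Coh.structureModule (Spec (CommRingCat.of A)) :=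
      e0 0 ≪≫ (tilde.functor (CommRingCat.of A)).mapIso (DTenLib.Point.sgH (ModuleCat.of A A) 0) ≪≫ tildeSelf
    obtain ⟨σ, θ, hθ⟩ := RefHullLib.exists_restrict_stalk j (W.homology 0) p
    obtain ⟨L⟩ := AVAmpleLib.nonempty_stalk_structureModule (Spec (CommRingCat.of A)) p
    let α := ((DerSch.stalkFunctor _ p).mapIso eY).toLinearEquiv
    let β : (W.homology 0).presheaf.stalk x ≃ₗ[X.presheaf.stalk x] X.presheaf.stalk x :=
      { θ.symm.trans ((α.toAddEquiv.trans L.symm.toAddEquiv).trans σ.toAddEquiv) with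
        map_smul' := fun c m => by
          have h1 : θ.symm (c • m) = σ.symm c • θ.symm m := by
            apply θ.injective
            rw [hθ, RingEquiv.apply_symm_apply, AddEquiv.apply_symm_apply, AddEquiv.apply_symm_apply]
          show σ (L.symm (α (θ.symm (c • m)))) = c • σ (L.symm (α (θ.symm m)))
          rw [h1]
          erw [map_smul α, map_smul L.symm]
          rw [smul_eq_mul, map_mul, RingEquiv.apply_symm_apply]
          rfl }
    exact ⟨(KFlatLib.stalkHomologyIso W x 0).toLinearEquiv.trans β⟩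
  obtain ⟨n₀, hn₀⟩ : ∃ n₀, ¬ IsZero (((KFlatLib.stalkCx X x).obj I).homology n₀) := by
    by_contra hall
    push Not at hall
    obtain ⟨a, b, J, hJ, -, -, -, ⟨eJ⟩⟩ := exists_kInj_model j I hω eI
    let V : X.Opens := j.opensRange ⊓ (Finset.Icc a b).inf fun n =>
      (⟨(CohB1.support (I.homology n))ᶜ, (QCohLib.isClosed_support _ (hcoh n).2).isOpen_compl⟩ : X.Opens)
    have hxV : x ∈ V := by
      refine ⟨⟨p, rfl⟩, ?_⟩
      rw [TopologicalSpace.Opens.coe_finset_inf, Finset.inf_set_eq_iInter]
      refine Set.mem_iInter₂.2 fun n _ hx => hx ?_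
      exact ModuleCat.subsingleton_of_isZero ((hall n).of_iso (KFlatLib.stalkHomologyIso I x n).symm)
    have hac : AcyOn V I := fun y hy n => by
      obtain ⟨q, rfl⟩ := hy.1
      by_cases hn : n ∈ Finset.Icc a b
      · refine IsZero.of_iso ?_ (KFlatLib.stalkHomologyIso I (j q) n)
        have h2 := hy.2
        rw [TopologicalSpace.Opens.coe_finset_inf, Finset.inf_set_eq_iInter] at h2
        have h3 := Set.mem_iInter₂.1 h2 n hn
        haveI : Subsingleton ((DerSch.stalkFunctor X (j q)).obj (I.homology n)) := not_not.1 h3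
        exact ModuleCat.isZero_of_subsingleton _
      · refine isZero_stalk_of_isZero_restrict j I n ?_ q
        rw [Finset.mem_Icc] at hn
        exact ((exactAt_iff_isZero_homology _ _).1 (ExactAt.of_isZero
            ((tilde.functor (CommRingCat.of A)).map_isZero (hJ n (by omega))))).of_iso
          ((((I.sc n).mapHomologyIso (Scheme.Modules.restrictFunctor j)).symm :
              (Scheme.Modules.restrictFunctor j).obj (I.homology n) ≅ ((rJ j).obj I).homology n) ≪≫
            ((DerivedCategory.homologyFunctorFactors _ n).app ((rJ j).obj I)).symm ≪≫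
              (DerivedCategory.homologyFunctor _ n).mapIso eJ ≪≫
                (DerivedCategory.homologyFunctorFactors _ n).app _)
    have hG : AcyOn V G1 := fun y hy n => (hac y hy n).of_iso
      ((HomologicalComplex.homologyFunctor _ _ n).mapIso ((KFlatLib.stalkCx X y).mapIso eG))
    have := ModuleCat.subsingleton_of_isZero (acyOn_iG hG I x hxV 0)
    exact not_subsingleton (X.presheaf.stalk x) θ.symm.toEquiv.subsingleton
  obtain ⟨L⟩ := AVAmpleLib.nonempty_stalk_structureModule X x
  let i : R0 (X.presheaf.stalk x) ≅ (KFlatLib.stalkCx X x).obj (unitCx X) :=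
    (single _ (ComplexShape.up ℤ) 0).mapIso
        (L.toModuleIso : ModuleCat.of _ (X.presheaf.stalk x) ≅ (DerSch.stalkFunctor X x).obj (Coh.structureModule X)) ≪≫
      ((singleMapHomologicalComplex (DerSch.stalkFunctor X x) (ComplexShape.up ℤ) 0).app _).symm
  let ε := (Gen.gAdj (Tb X) G1).counit.app I
  let e : KFlatLib.tT ((KFlatLib.stalkCx X x).obj W) ((KFlatLib.stalkCx X x).obj G1) ⟶ (KFlatLib.stalkCx X x).obj I :=
    (KFlatLib.stalkTensorCxIso x W G1).hom ≫ (KFlatLib.stalkCx X x).map ε
  haveI hadj : IsIso ((Gen.tR (Tb X) G1).map (ev (unitCx X) I) ≫ ε) := by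
    have h : (Gen.tR (Tb X) G1).map (ev (unitCx X) I) ≫ ε =
        (KFlatLib.tCxFlip G1 (unitCx X)).hom ≫ (Gen.gAdj (Tb X) (unitCx X)).counit.app I :=
      ((Gen.gAdj (Tb X) G1).homEquiv_counit _ _ _).symm.trans (adjunct_ev (unitCx X) I)
    haveI : (Gen.G (Tb X) (unitCx X)).IsEquivalence := Functor.isEquivalence_of_iso gUnitIso.symm
    haveI : IsIso ((Gen.gAdj (Tb X) (unitCx X)).counit.app I) := inferInstance
    rw [h]
    infer_instance
  have hfac : KFlatLib.tMap (evAt (unitCx X) I x) (𝟙 ((KFlatLib.stalkCx X x).obj G1)) ≫ e =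
      (KFlatLib.stalkTensorCxIso x (unitCx X) G1).hom ≫
        (KFlatLib.stalkCx X x).map ((Gen.tR (Tb X) G1).map (ev (unitCx X) I) ≫ ε) := by
    have h := KFlatLib.stalkTensorCxIso_natural x (ev (unitCx X) I) (𝟙 G1)
    rw [CategoryTheory.Functor.map_id (KFlatLib.stalkCx X x) G1] at h
    rw [Functor.map_comp, ← Category.assoc (KFlatLib.stalkTensorCxIso x (unitCx X) G1).hom]
    refine (Category.assoc _ _ _).symm.trans (congrArg (· ≫ (KFlatLib.stalkCx X x).map ε) ?_)
    exact h
  haveI : IsIso (KFlatLib.tMap (evAt (unitCx X) I x) (𝟙 ((KFlatLib.stalkCx X x).obj G1)) ≫ e) := by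
    rw [hfac]
    infer_instance
  refine quasiIso_of_tensor i (evAt (unitCx X) I x) e n₀ inferInstance hW θ ?_ hn₀
  haveI := (hcoh n₀).1
  haveI := DepthLib.finite_stalk (I.homology n₀) (hcoh n₀).2 x
  haveI : Module.Finite (X.presheaf.stalk x) ((DerSch.stalkFunctor X x).obj (I.homology n₀)) := this
  exact Module.Finite.equiv (KFlatLib.stalkHomologyIso I x n₀).toLinearEquiv.symm

end BidualSchLib
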